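/-
Tools for the P(G,V) theorem: fixed vectors, orbit products `orb a n z = z · z^a ⋯`,
and the behaviour of quasisimple groups acting on subsets fixed pointwise.
-/
import Cfsg.Agent.EqLemmas
import Cfsg.Agent.Lib.Components.Quasisimple

namespace Cfsg.Agent.PGV

open scoped Pointwise

variable {G V : Type*} [Group G] [AddCommGroup V] [DistribMulAction G V]

/-- Conjugation `y ↦ a y a⁻¹`. -/
abbrev cj (a y : G) : G := MulAut.conj a y

theorem cj_def (a y : G) : cj a y = a * y * a⁻¹ := rfl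

theorem cj_cj (a b y : G) : cj a (cj b y) = cj (a * b) y := by
  simp only [cj, map_mul, MulAut.mul_apply]

theorem cj_one (y : G) : cj 1 y = y := by simp [cj_def]

/-- If `h` fixes `h v - v` and has order prime to the exponent of `V`, it fixes `v`. -/
theorem fix_of_unipotent {p m : ℕ} (hp : ∀ v : V, p • v = 0) (hm : m.Coprime p) {h : G} (hh : h ^ m = 1)
    {v : V} (hv : h • (h • v - v) = h • v - v) : h • v = v := by
  have key : ∀ k : ℕ, h ^ k • v = v + k • (h • v - v) := by
    intro k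
    induction k with
    | zero => simp
    | succ k ih =>
      rw [pow_succ', mul_smul, ih, smul_add, smul_comm h k, hv, succ_nsmul]
      abel
  have h1 := key m
  rw [hh, one_smul, left_eq_add] at h1
  have h2 : addOrderOf (h • v - v) ∣ 1 := by
    rw [← hm.gcd_eq_one]
    exact Nat.dvd_gcd (addOrderOf_dvd_of_nsmul_eq_zero h1) (addOrderOf_dvd_of_nsmul_eq_zero (hp _))
  rw [Nat.dvd_one, AddMonoid.addOrderOf_eq_one_iff, sub_eq_zero] at h2
  exact h2

variable (G) in
/-- The vectors fixed by a set. -/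
def fixS (s : Set G) : AddSubgroup V where
  carrier := {v | ∀ g ∈ s, g • v = v}
  zero_mem' := fun g _ => smul_zero g
  add_mem' := fun {u v} hu hv g hg => by rw [smul_add, hu g hg, hv g hg]
  neg_mem' := fun {v} hv g hg => by rw [smul_neg, hv g hg]

theorem mem_fixS {s : Set G} {v : V} : v ∈ fixS G s ↔ ∀ g ∈ s, g • v = v := Iff.rfl

theorem fixS_anti {s t : Set G} (h : s ⊆ t) : (fixS G t : AddSubgroup V) ≤ fixS G s :=
  fun _ hv g hg => hv g (h hg)

/-- The range of `v ↦ a v - v`. -/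
def rng (a : G) : AddSubgroup V :=
  (DistribSMul.toAddMonoidHom V a - AddMonoidHom.id V).range

theorem mem_rng {a : G} {w : V} : w ∈ rng a ↔ ∃ v, a • v - v = w := Iff.rfl

theorem smul_mem_rng {a g : G} (h : Commute g a) {w : V} (hw : w ∈ rng a) : g • w ∈ rng a := by
  obtain ⟨v, rfl⟩ := mem_rng.1 hw
  exact mem_rng.2 ⟨g • v, by rw [smul_sub, smul_smul, smul_smul, h.eq]⟩

theorem card_rng [Finite V] (a : G) :
    Nat.card ↥(rng (V := V) a) * Nat.card ↥(fixS (V := V) G {a}) = Nat.card V := by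
  have h := (DistribSMul.toAddMonoidHom V a - AddMonoidHom.id V).ker.card_eq_card_quotient_mul_card_addSubgroup
  have hk : (DistribSMul.toAddMonoidHom V a - AddMonoidHom.id V).ker = fixS G {a} := by
    ext v
    simp [AddMonoidHom.mem_ker, mem_fixS, sub_eq_zero]
  rw [Nat.card_congr (QuotientAddGroup.quotientKerEquivRange _).toEquiv, hk] at h
  exact h.symm

/-- `orb a n z = z · (a z a⁻¹) ⋯ (a^(n-1) z a^(1-n))`. -/
def orb (a : G) : ℕ → G → G
  | 0, _ => 1
  | n + 1, z => orb a n z * cj (a ^ n) z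

theorem orb_succ (a : G) (n : ℕ) (z : G) : orb a (n + 1) z = orb a n z * cj (a ^ n) z := rfl

theorem orb_two (a z : G) : orb a 2 z = z * cj a z := by simp [orb, cj_one]

theorem commute_orb {a z g : G} : ∀ n, (∀ i < n, Commute g (cj (a ^ i) z)) → Commute g (orb a n z)
  | 0, _ => Commute.one_right g
  | n + 1, h => (commute_orb n fun i hi => h i (by omega)).mul_right (h n (by omega))

theorem orb_mul {a u v : G} : ∀ n,
    (∀ i < n, ∀ j < n, i ≠ j → Commute (cj (a ^ i) v) (cj (a ^ j) u)) →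
    orb a n (u * v) = orb a n u * orb a n v
  | 0, _ => by simp [orb]
  | n + 1, h => by
    have hc : Commute (cj (a ^ n) u) (orb a n v) :=
      commute_orb n fun i hi => (h i (by omega) n (by omega) (by omega)).symm
    rw [orb_succ, orb_succ, orb_succ, orb_mul n (fun i hi j hj => h i (by omega) j (by omega)),
      cj, map_mul]
    simp only [mul_assoc]
    rw [← mul_assoc (orb a n v), ← hc.eq, mul_assoc]

theorem orb_cj {a z : G} (n : ℕ) : cj a (orb a n z) = orb a n (cj a z) := by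
  induction n with
  | zero => simp [orb]
  | succ n ih => rw [orb_succ, orb_succ, cj, map_mul, ← cj, ih]; simp only [cj, ← MulAut.mul_apply, ← map_mul, ← pow_succ, ← pow_succ']

theorem orb_shift {a z : G} (n : ℕ) : z * cj a (orb a n z) = orb a (n + 1) z := by
  induction n with
  | zero => simp [orb, cj_one]
  | succ n ih =>
    rw [orb_succ a n, cj, map_mul, ← cj, ← mul_assoc, ih, orb_succ a (n + 1), ← cj, cj_cj, ← pow_succ']

/-- `a` commutes with the product over one full period when the factors commute. -/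
theorem commute_orb_self {a z : G} {n : ℕ} (hn : a ^ n = 1)
    (h : ∀ i < n, Commute z (cj (a ^ i) z)) : Commute a (orb a n z) := by
  have h1 := orb_shift (a := a) (z := z) n
  rw [orb_succ, hn, cj_one] at h1
  have h2 : cj a (orb a n z) = orb a n z := by
    have := (commute_orb (a := a) n h).eq
    rw [← this] at h1
    exact mul_left_cancel h1
  rw [cj_def, mul_inv_eq_iff_eq_mul] at h2
  exact h2

theorem orb_conj {a z g : G} (hg : Commute g a) (n : ℕ) : cj g (orb a n z) = orb a n (cj g z) := by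
  induction n with
  | zero => simp [orb]
  | succ n ih =>
    rw [orb_succ, orb_succ, cj, map_mul, ← cj, ih]
    simp only [cj, ← MulAut.mul_apply, ← map_mul, (hg.pow_right n).eq]

theorem orb_pow_eq_one {a z : G} {m : ℕ} (hz : z ^ m = 1) : ∀ n,
    (∀ i < n, ∀ j < n, Commute (cj (a ^ i) z) (cj (a ^ j) z)) → orb a n z ^ m = 1
  | 0, _ => one_pow m
  | n + 1, h => by
    have hc : Commute (orb a n z) (cj (a ^ n) z) :=
      (commute_orb n fun i hi => h n (by omega) i (by omega)).symm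
    rw [orb_succ, hc.mul_pow, orb_pow_eq_one hz n fun i hi j hj => h i (by omega) j (by omega),
      cj, ← map_pow, hz, map_one, one_mul]

/-- A vector fixed by `y` and `a` is fixed by every orbit product of `y`. -/
theorem orb_smul_of_fixed {a y : G} {u : V} (ha : a • u = u) (hy : y • u = u) :
    ∀ n, orb a n y • u = u
  | 0 => one_smul G u
  | n + 1 => by
    have h1 : ∀ k : ℕ, a ^ k • u = u := by
      intro k
      induction k with
      | zero => simp
      | succ k ih => rw [pow_succ, mul_smul, ha, ih]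
    have h2 : (a ^ n)⁻¹ • u = u := by rw [inv_smul_eq_iff, h1]
    rw [orb_succ, mul_smul, cj_def, mul_smul, mul_smul, h2, hy, h1, orb_smul_of_fixed ha hy n]

section QS

variable {K : Subgroup G}

theorem qs_hom_trivial (hK : Cfsg.IsQuasisimple ↥K) {M : Type*} [Group M] (f : ↥K →* M)
    (h : ∀ x y, Commute (f x) (f y)) (x : ↥K) : f x = 1 := by
  have := hK.1
  have hle : commutator ↥K ≤ f.ker := by
    rw [_root_.commutator_def, Subgroup.commutator_le]
    intro a _ b _
    rw [MonoidHom.mem_ker, map_commutatorElement, commutatorElement_eq_one_iff_mul_comm]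
    exact h a b
  rw [Group.IsPerfect.commutator_eq_top] at hle
  exact hle (Subgroup.mem_top x)

/-- The elements `y` of `K` with `f y` fixing `W` pointwise. -/
def kerOn (f : ↥K →* G) (W : Set V) : Subgroup ↥K where
  carrier := {y | ∀ w ∈ W, f y • w = w}
  one_mem' := fun w _ => by rw [map_one, one_smul]
  mul_mem' := fun {x y} hx hy w hw => by rw [map_mul, mul_smul, hy w hw, hx w hw]
  inv_mem' := fun {x} hx w hw => by rw [map_inv, inv_smul_eq_iff, hx w hw]

theorem kerOn_normal (f : ↥K →* G) {W : Set V} (hW : ∀ y, ∀ w ∈ W, f y • w ∈ W) :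
    (kerOn f W).Normal := by
  refine ⟨fun n hn g => fun w hw => ?_⟩
  rw [map_mul, map_mul, map_inv, mul_smul, mul_smul, hn _ (by simpa using hW g⁻¹ w hw),
    smul_inv_smul]

/-- A noncentral element fixing the invariant set `W` forces all of `K` to fix it. -/
theorem fix_of_noncentral (hK : Cfsg.IsQuasisimple ↥K) (f : ↥K →* G) {W : Set V}
    (hW : ∀ y, ∀ w ∈ W, f y • w ∈ W) {y : ↥K} (hy : y ∉ Subgroup.center ↥K)
    (hfix : ∀ w ∈ W, f y • w = w) : ∀ z, ∀ w ∈ W, f z • w = w := by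
  have := kerOn_normal f hW
  rcases Components.IsQuasisimple.normal_eq_top_or_le_center hK (kerOn f W) with h | h
  · exact fun z w hw => (h ▸ Subgroup.mem_top z : z ∈ kerOn f W) w hw
  · exact absurd (h (show y ∈ kerOn f W from hfix)) hy

/-- Commuting action on an invariant set is trivial. -/
theorem fix_of_commute (hK : Cfsg.IsQuasisimple ↥K) (f : ↥K →* G) {W : Set V}
    (hW : ∀ y, ∀ w ∈ W, f y • w ∈ W)
    (hc : ∀ y z, ∀ w ∈ W, f y • f z • w = f z • f y • w) : ∀ z, ∀ w ∈ W, f z • w = w := by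
  have hn := kerOn_normal f hW
  have := hK.1
  have hle : commutator ↥K ≤ kerOn f W := by
    rw [_root_.commutator_def, Subgroup.commutator_le]
    intro a _ b _ w hw
    rw [commutatorElement_def, map_mul, map_mul, map_mul, mul_smul, mul_smul, mul_smul,
      hc a b _ (hW _ _ (hW _ w hw))]
    simp only [map_inv, smul_inv_smul]
  rw [Group.IsPerfect.commutator_eq_top] at hle
  exact fun z w hw => hle (Subgroup.mem_top z) w hw

/-- A noncentral element has a noncentral commutator. -/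
theorem exists_commutator_not_center (hK : Cfsg.IsQuasisimple ↥K) {x : ↥K}
    (hx : x ∉ Subgroup.center ↥K) : ∃ g : ↥K, x⁻¹ * (g * x * g⁻¹) ∉ Subgroup.center ↥K := by
  by_contra! h
  let f : ↥K →* ↥(Subgroup.center ↥K) :=
    MonoidHom.mk' (fun g => ⟨x⁻¹ * (g * x * g⁻¹), h g⟩) fun a b => by
      apply Subtype.ext
      show x⁻¹ * (a * b * x * (a * b)⁻¹) = (x⁻¹ * (a * x * a⁻¹)) * (x⁻¹ * (b * x * b⁻¹))
      have hb := Subgroup.mem_center_iff.1 (h b)
      calc x⁻¹ * (a * b * x * (a * b)⁻¹) = x⁻¹ * a * x * (x⁻¹ * (b * x * b⁻¹)) * a⁻¹ := by group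
        _ = x⁻¹ * a * x * (a⁻¹ * (x⁻¹ * (b * x * b⁻¹))) := by rw [mul_assoc, ← hb a⁻¹]
        _ = (x⁻¹ * (a * x * a⁻¹)) * (x⁻¹ * (b * x * b⁻¹)) := by group
  refine hx (Subgroup.mem_center_iff.2 fun g => ?_)
  have h1 := congrArg Subtype.val (qs_hom_trivial hK f
    (fun a b => Subtype.ext (Subgroup.mem_center_iff.1 (f b).2 (f a).1)) g)
  have h2 : x⁻¹ * (g * x * g⁻¹) = 1 := h1
  rw [inv_mul_eq_one] at h2
  conv_rhs => rw [h2]
  group

/-- An automorphism moving every element by a central one is trivial. -/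
theorem qs_aut_eq (hK : Cfsg.IsQuasisimple ↥K) (σ : ↥K →* ↥K)
    (h : ∀ y, y⁻¹ * σ y ∈ Subgroup.center ↥K) (y : ↥K) : σ y = y := by
  let f : ↥K →* ↥(Subgroup.center ↥K) :=
    MonoidHom.mk' (fun g => ⟨g⁻¹ * σ g, h g⟩) fun a b => by
      apply Subtype.ext
      show (a * b)⁻¹ * σ (a * b) = (a⁻¹ * σ a) * (b⁻¹ * σ b)
      have ha := Subgroup.mem_center_iff.1 (h a) b⁻¹
      calc (a * b)⁻¹ * σ (a * b) = b⁻¹ * (a⁻¹ * σ a) * σ b := by rw [map_mul]; group
        _ = (a⁻¹ * σ a) * (b⁻¹ * σ b) := by rw [ha, mul_assoc]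
  have h1 := congrArg Subtype.val (qs_hom_trivial hK f
    (fun a b => Subtype.ext (Subgroup.mem_center_iff.1 (f b).2 (f a).1)) y)
  have h2 : y⁻¹ * σ y = 1 := h1
  exact (inv_mul_eq_one.1 h2).symm

end QS

/-- Two commuting elements of `q`-power order on a nonzero invariant subgroup: one is congruent to a
power of the other on some nonzero vector. -/
theorem exists_fixed_combination [Finite V] {p q : ℕ} [Fact q.Prime] {g h : G} (hgh : Commute g h)
    {k : ℕ} (hg : g ^ q ^ k = 1) (hh : h ^ q ^ k = 1) (W : AddSubgroup V) (hW : W ≠ ⊥)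
    (hgW : ∀ w ∈ W, g • w ∈ W) (hhW : ∀ w ∈ W, h • w ∈ W) :
    ∃ j : ℕ, ∃ w ∈ W, w ≠ 0 ∧ ((g * h ^ j) • w = w ∨ (g ^ j * h) • w = w) := by
  classical
  have := nontrivial_iff.2 (AddSubgroup.ne_bot_iff_exists_ne_zero.1 hW |>.elim fun w hw => ⟨w, 0, hw⟩)
  let E : (G → V → V) := fun x v => x • v
  let lift : ∀ x : G, (∀ w ∈ W, x • w ∈ W) → AddMonoid.End ↥W := fun x hx =>
    { toFun := fun w => ⟨x • w.1, hx _ w.2⟩
      map_zero' := Subtype.ext (smul_zero x)
      map_add' := fun u v => Subtype.ext (smul_add x u.1 v.1) }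
  set g' := lift g hgW
  set h' := lift h hhW
  have hpowg : ∀ (n : ℕ) (w : W), ((g' ^ n) w).1 = g ^ n • w.1 := by
    intro n
    induction n with
    | zero => intro w; simp
    | succ n ih => intro w; rw [pow_succ, pow_succ, mul_smul]; exact ih (g' w)
  have hpowh : ∀ (n : ℕ) (w : W), ((h' ^ n) w).1 = h ^ n • w.1 := by
    intro n
    induction n with
    | zero => intro w; simp
    | succ n ih => intro w; rw [pow_succ, pow_succ, mul_smul]; exact ih (h' w)
  have hcomm : ∀ x ∈ ({g', h'} : Set (AddMonoid.End ↥W)), ∀ y ∈ ({g', h'} : Set _), x * y = y * x := by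
    have hc : g' * h' = h' * g' := AddMonoidHom.ext fun w => Subtype.ext (by
      show g • h • w.1 = h • g • w.1
      rw [smul_smul, smul_smul, hgh.eq])
    rintro x (rfl | rfl) y (rfl | rfl) <;> simp [hc]
  let R := Subring.closure ({g', h'} : Set (AddMonoid.End ↥W))
  letI : CommRing R := Subring.closureCommRingOfComm hcomm
  haveI : Finite (AddMonoid.End ↥W) := Finite.of_injective (fun f : AddMonoid.End ↥W => (f : ↥W → ↥W)) DFunLike.coe_injective
  haveI : Nontrivial R := by
    obtain ⟨u, v, huv⟩ := exists_pair_ne ↥W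
    refine ⟨0, 1, fun h01 => huv ?_⟩
    have : ∀ w : W, (0 : AddMonoid.End ↥W) w = (1 : AddMonoid.End ↥W) w := fun w => by
      rw [show (0 : AddMonoid.End ↥W) = 1 from congrArg Subtype.val h01]
    exact (this u).symm.trans (this v)
  let gR : R := ⟨g', Subring.subset_closure (Or.inl rfl)⟩
  let hR : R := ⟨h', Subring.subset_closure (Or.inr rfl)⟩
  have hgR : gR ^ q ^ k = 1 := Subtype.ext (AddMonoidHom.ext fun w => Subtype.ext (by
    show ((g' ^ q ^ k) w).1 = w.1
    rw [hpowg, hg, one_smul]))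
  have hhR : hR ^ q ^ k = 1 := Subtype.ext (AddMonoidHom.ext fun w => Subtype.ext (by
    show ((h' ^ q ^ k) w).1 = w.1
    rw [hpowh, hh, one_smul]))
  obtain ⟨M, hM⟩ := Ideal.exists_maximal R
  letI := Ideal.Quotient.field M
  set π := Ideal.Quotient.mk M
  -- one of the images is a power of the other
  have hd : ∀ x y : R, x ^ q ^ k = 1 → y ^ q ^ k = 1 → orderOf (π x) ∣ orderOf (π y) →
      ∃ i : ℕ, x - y ^ i ∈ M := by
    intro x y _ hy hxy
    have hfin : IsOfFinOrder (π y) := isOfFinOrder_iff_pow_eq_one.2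
      ⟨q ^ k, pow_pos (Fact.out : q.Prime).pos k, by rw [← map_pow, hy, map_one]⟩
    haveI : NeZero (orderOf (π y)) := ⟨hfin.orderOf_pos.ne'⟩
    obtain ⟨i, -, hi⟩ := (IsPrimitiveRoot.orderOf (π y)).eq_pow_of_pow_eq_one
      (orderOf_dvd_iff_pow_eq_one.1 hxy)
    refine ⟨i, Ideal.Quotient.eq.1 ?_⟩
    rw [map_pow]; exact hi.symm
  have hkill : ∀ r ∈ M, ∃ s : R, s ≠ 0 ∧ r * s = 0 := by
    intro r hr
    by_contra! hcon
    refine hM.ne_top (Ideal.eq_top_of_isUnit_mem M hr ?_)
    rw [isUnit_iff_mem_nonZeroDivisors_of_finite, mem_nonZeroDivisors_iff_right]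
    intro s hs
    by_contra h0
    exact hcon s h0 (by rw [mul_comm]; exact hs)
  have hvec : ∀ r ∈ M, ∃ w : W, w ≠ 0 ∧ (r.1 : AddMonoid.End ↥W) w = 0 := by
    intro r hr
    obtain ⟨s, hs, hrs⟩ := hkill r hr
    obtain ⟨v, hv⟩ : ∃ v : W, (s.1 : AddMonoid.End ↥W) v ≠ 0 := by
      by_contra! h0
      exact hs (Subtype.ext (AddMonoidHom.ext h0))
    exact ⟨_, hv, congrArg (fun f : AddMonoid.End ↥W => f v) (congrArg Subtype.val hrs)⟩
  obtain ⟨a, ha⟩ : ∃ a, orderOf (π gR) = q ^ a := by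
    obtain ⟨a, -, ha⟩ := (Nat.dvd_prime_pow Fact.out).1 (orderOf_dvd_of_pow_eq_one (x := π gR) (n := q ^ k) (by rw [← map_pow, hgR, map_one]))
    exact ⟨a, ha⟩
  obtain ⟨b, hb⟩ : ∃ b, orderOf (π hR) = q ^ b := by
    obtain ⟨b, -, hb⟩ := (Nat.dvd_prime_pow Fact.out).1 (orderOf_dvd_of_pow_eq_one (x := π hR) (n := q ^ k) (by rw [← map_pow, hhR, map_one]))
    exact ⟨b, hb⟩
  have hq : 1 ≤ q ^ k := pow_pos (Fact.out : q.Prime).pos k
  rcases le_total a b with hab | hab
  · obtain ⟨i, hi⟩ := hd gR hR hgR hhR (by rw [ha, hb]; exact pow_dvd_pow q hab)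
    obtain ⟨w, hw0, hw⟩ := hvec _ hi
    have hw' : g • w.1 = h ^ i • w.1 := by
      rw [← hpowh i w]
      exact congrArg Subtype.val (sub_eq_zero.1 hw)
    refine ⟨(q ^ k - 1) * i, w.1, w.2, fun e => hw0 (Subtype.ext e), Or.inl ?_⟩
    rw [(hgh.pow_right _).eq, mul_smul, hw', ← mul_smul, ← pow_add,
      show (q ^ k - 1) * i + i = q ^ k * i by rw [← Nat.succ_mul, Nat.succ_eq_add_one, Nat.sub_add_cancel hq],
      pow_mul, hh, one_pow, one_smul]
  · obtain ⟨i, hi⟩ := hd hR gR hhR hgR (by rw [ha, hb]; exact pow_dvd_pow q hab)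
    obtain ⟨w, hw0, hw⟩ := hvec _ hi
    have hw' : h • w.1 = g ^ i • w.1 := by
      rw [← hpowg i w]
      exact congrArg Subtype.val (sub_eq_zero.1 hw)
    refine ⟨(q ^ k - 1) * i, w.1, w.2, fun e => hw0 (Subtype.ext e), Or.inr ?_⟩
    rw [mul_smul, hw', ← mul_smul, ← pow_add,
      show (q ^ k - 1) * i + i = q ^ k * i by rw [← Nat.succ_mul, Nat.succ_eq_add_one, Nat.sub_add_cancel hq],
      pow_mul, hg, one_pow, one_smul]

end Cfsg.Agent.PGV
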