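/-
The irreducible case of the P(G,V) theorem: the key property `R`
("orbit products centralize `[V, a]`") and fixed-point-freeness.
-/
import Cfsg.Agent.Lib.PGV.Tools

namespace Cfsg.Agent.PGV

variable {G V : Type*} [Group G] [AddCommGroup V] [DistribMulAction G V] {p : ℕ} {K A : Subgroup G}

/-- `a` does not normalize `K`. -/
def Moves (K : Subgroup G) (a : G) : Prop := a ∉ Subgroup.normalizer (K : Set G)

/-- The irreducible configuration. -/
structure Ctx (p : ℕ) (V : Type*) [AddCommGroup V] [DistribMulAction G V] (K A : Subgroup G) : Prop where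
  hp : ∀ v : V, p • v = 0
  qs : Cfsg.IsQuasisimple ↥K
  comm : ∀ a ∈ A, ∀ c ∈ A, a * c = c * a
  exp : ∀ a ∈ A, a ^ p = 1
  swap : ∀ a ∈ A, Moves K a → ∀ x ∈ K, ∀ y ∈ K, Commute x (cj a y)
  irr : ∀ W : AddSubgroup V, (∀ k ∈ K, ∀ w ∈ W, k • w ∈ W) → (∀ a ∈ A, ∀ w ∈ W, a • w ∈ W) → W = ⊥ ∨ W = ⊤
  faith : ∀ g : G, (∀ v : V, g • v = v) → g = 1
  offender : Nat.card V ≤ Nat.card A * Nat.card ↥(fixS (V := V) G (A : Set G))

/-- Orbit products centralize `[V, a]`. -/
def R (p : ℕ) (V : Type*) [AddCommGroup V] [DistribMulAction G V] (K : Subgroup G) (a : G) : Prop :=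
  ∀ y ∈ K, ∀ w ∈ rng (V := V) a, orb a p y • w = w

theorem cj_mem {n : G} (hn : n ∈ Subgroup.normalizer (K : Set G)) {x : G} (hx : x ∈ K) : cj n x ∈ K :=
  (Subgroup.mem_normalizer_iff.1 hn x).1 hx

section

variable (h : Ctx p V K A)
include h

theorem Ctx.commute_cj {a c : G} (ha : a ∈ A) (hc : c ∈ A) (hm : Moves K (a⁻¹ * c)) {x y : G}
    (hx : x ∈ K) (hy : y ∈ K) : Commute (cj a x) (cj c y) := by
  have := (h.swap _ (A.mul_mem (A.inv_mem ha) hc) hm x hx y hy).map (MulAut.conj a).toMonoidHom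
  simp only [MulEquiv.coe_toMonoidHom] at this
  rwa [← cj, ← cj, cj_cj, mul_inv_cancel_left] at this

theorem Ctx.center_of_eq_cj {a : G} (ha : a ∈ A) (hm : Moves K a) {x y : G} (hx : x ∈ K) (hy : y ∈ K)
    (he : x = cj a y) : (⟨x, hx⟩ : ↥K) ∈ Subgroup.center ↥K := by
  refine Subgroup.mem_center_iff.2 fun g => Subtype.ext ?_
  show g.1 * x = x * g.1
  rw [he]
  exact h.swap a ha hm g.1 g.2 y hy

theorem Ctx.eq_zero {v : V} (hv : ∀ c ∈ A, ∀ y ∈ K, cj c y • v = v) : v = 0 := by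
  let W : AddSubgroup V := fixS G {g | ∃ c ∈ A, ∃ y ∈ K, cj c y = g}
  have hvW : v ∈ W := by rintro _ ⟨c, hc, y, hy, rfl⟩; exact hv c hc y hy
  have hK : ∀ k ∈ K, ∀ w ∈ W, k • w = w := fun k hk w hw => hw k ⟨1, A.one_mem, k, hk, cj_one k⟩
  rcases h.irr W (fun k hk w hw => by rw [hK k hk w hw]; exact hw) (fun a ha w hw => by
    rintro _ ⟨c, hc, y, hy, rfl⟩
    have := hw (cj (a⁻¹ * c) y) ⟨_, A.mul_mem (A.inv_mem ha) hc, y, hy, rfl⟩
    rw [← smul_left_cancel_iff a⁻¹, inv_smul_smul, smul_smul, smul_smul]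
    rw [show a⁻¹ * cj c y * a = cj (a⁻¹ * c) y by simp only [cj_def]; group, this]) with hW | hW
  · rw [hW] at hvW; simpa using hvW
  · have := Components.IsQuasisimple.nontrivial h.qs
    obtain ⟨x, hx⟩ := exists_ne (1 : ↥K)
    exact absurd (Subtype.ext (h.faith x.1 fun w => hK x.1 x.2 w (hW ▸ AddSubgroup.mem_top w))) hx

theorem Ctx.pow_moves [hp : Fact p.Prime] {a : G} (ha : a ∈ A) (hm : Moves K a) {i : ℕ} (hi : ¬ p ∣ i) :
    Moves K (a ^ i) := by
  intro hn
  apply hm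
  obtain ⟨u, -, hu⟩ := Nat.exists_mul_mod_eq_one_of_coprime ((hp.out.coprime_iff_not_dvd.2 hi).symm) hp.out.one_lt
  have : a = (a ^ i) ^ u := by
    rw [← pow_mul, ← Nat.mod_add_div (i * u) p, pow_add, pow_mul, h.exp a ha, one_pow, mul_one, hu, pow_one]
  rw [this]
  exact Subgroup.pow_mem _ hn u

theorem Ctx.commute_powers [hp : Fact p.Prime] {a : G} (ha : a ∈ A) (hm : Moves K a) {s t : ℕ}
    (hst : s % p ≠ t % p) {x y : G} (hx : x ∈ K) (hy : y ∈ K) :
    Commute (cj (a ^ s) x) (cj (a ^ t) y) := by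
  refine h.commute_cj (A.pow_mem ha s) (A.pow_mem ha t) ?_ hx hy
  have hs : s % p < p := Nat.mod_lt _ hp.out.pos
  have hinv : (a ^ s)⁻¹ = a ^ (p - s % p) := by
    rw [inv_eq_iff_mul_eq_one, ← pow_add, ← Nat.mod_add_div (s + (p - s % p)) p, pow_add, pow_mul, h.exp a ha,
      one_pow, mul_one]
    have : (s + (p - s % p)) % p = 0 := by
      rw [Nat.add_mod, ← Nat.mod_mod s p, ← Nat.add_mod, Nat.mod_mod, Nat.add_sub_cancel' hs.le, Nat.mod_self]
    rw [this, pow_zero]
  rw [hinv, ← pow_add]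
  refine h.pow_moves ha hm fun hd => hst ?_
  obtain ⟨e, he⟩ := hd
  have h1 : t + p = p * e + s % p := by omega
  have := congrArg (· % p) h1
  simp only [Nat.add_mod_right, Nat.mul_add_mod, Nat.mod_mod] at this
  exact this.symm

theorem Ctx.orb_map_mul [hp : Fact p.Prime] {a : G} (ha : a ∈ A) (hm : Moves K a) {u v : G} (hu : u ∈ K)
    (hv : v ∈ K) : orb a p (u * v) = orb a p u * orb a p v :=
  orb_mul p fun i hi j hj hij => h.commute_powers ha hm
    (by rwa [Nat.mod_eq_of_lt hi, Nat.mod_eq_of_lt hj]) hv hu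

/-- The orbit product as a homomorphism. -/
def Ctx.phi [hp : Fact p.Prime] {a : G} (ha : a ∈ A) (hm : Moves K a) : ↥K →* G :=
  MonoidHom.mk' (fun y => orb a p y) fun u v => h.orb_map_mul ha hm u.2 v.2

theorem Ctx.commute_phi [hp : Fact p.Prime] {a : G} (ha : a ∈ A) (hm : Moves K a) {y : G} (hy : y ∈ K) :
    Commute a (orb a p y) := by
  refine commute_orb_self (h.exp a ha) fun i hi => ?_
  rcases Nat.eq_zero_or_pos i with rfl | hi0
  · rw [pow_zero, cj_one]
  · have := h.commute_powers ha hm (s := 0) (t := i)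
      (by rw [Nat.zero_mod, Nat.mod_eq_of_lt hi]; omega) hy hy
    rwa [pow_zero, cj_one] at this

/-- An element of `A` centralizing `K` is trivial. -/
theorem Ctx.centralizing_eq_one [hp : Fact p.Prime] [Finite V] {b : G} (hb : b ∈ A)
    (hc : ∀ x ∈ K, cj b x = x) : b = 1 := by
  have hK : ∀ x ∈ K, Commute b x := fun x hx => by
    have := hc x hx; rw [cj_def, mul_inv_eq_iff_eq_mul] at this; exact this
  rcases h.irr (fixS G {b}) (fun k hk w hw => by
      rintro g rfl
      rw [smul_smul, (hK k hk).eq, mul_smul, hw g rfl])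
    (fun a ha w hw => by
      rintro g rfl
      rw [smul_smul, h.comm g hb a ha, mul_smul, hw g rfl]) with hW | hW
  · exfalso
    have hK1 := Components.IsQuasisimple.nontrivial h.qs
    obtain ⟨x, hx⟩ := exists_ne (1 : ↥K)
    obtain ⟨v, hv⟩ : ∃ v : V, x.1 • v ≠ v := by
      by_contra! hcon
      exact hx (Subtype.ext (h.faith _ hcon))
    have hpg : IsPGroup p ↥(Subgroup.zpowers b) := by
      intro g
      refine ⟨1, Subtype.ext ?_⟩
      rw [pow_one, SubmonoidClass.coe_pow, OneMemClass.coe_one]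
      exact h.exp _ (Subgroup.zpowers_le.2 hb g.2)
    have hdv : p ∣ Nat.card V := by
      have h1 : addOrderOf (x.1 • v - v) = p :=
        addOrderOf_eq_prime (h.hp _) (sub_ne_zero.2 hv)
      rw [← h1]; exact addOrderOf_dvd_natCard _
    have h2 : ({0} : Set V) = MulAction.fixedPoints ↥(Subgroup.zpowers b) V := by
      ext w
      constructor
      · rintro rfl g; exact smul_zero g
      · intro hw
        have : w ∈ fixS (V := V) G {b} := fun g hg => by
          rw [hg]; exact hw ⟨b, Subgroup.mem_zpowers b⟩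
        rwa [hW] at this
    obtain ⟨w, hw, hw0⟩ := hpg.exists_fixed_point_of_prime_dvd_card_of_fixed_point V hdv
      (a := 0) (fun g => smul_zero g)
    rw [← h2] at hw
    exact hw0 hw.symm
  · exact h.faith b fun v => (hW ▸ AddSubgroup.mem_top v : v ∈ fixS (V := V) G {b}) b rfl

/-- `R` when some nontrivial element of `A` normalizing `K` centralizes `[V, a]`. -/
theorem Ctx.r_of_normalizing [hp : Fact p.Prime] [Finite V] {a b : G} (ha : a ∈ A) (hm : Moves K a) (hb : b ∈ A)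
    (hbN : b ∈ Subgroup.normalizer (K : Set G)) (hb1 : b ≠ 1) (hfix : ∀ w ∈ rng (V := V) a, b • w = w) :
    R p V K a := by
  let σ : ↥K →* ↥K := MonoidHom.mk' (fun y => ⟨cj b y.1, cj_mem hbN y.2⟩)
    fun u v => Subtype.ext (map_mul (MulAut.conj b) u.1 v.1)
  have hW : ∀ y : ↥K, ∀ w ∈ (rng a : AddSubgroup V), h.phi ha hm y • w ∈ rng a :=
    fun y w hw => smul_mem_rng (h.commute_phi ha hm y.2).symm hw
  by_cases hc : ∀ y : ↥K, y⁻¹ * σ y ∈ Subgroup.center ↥K
  · exact absurd (h.centralizing_eq_one hb fun x hx =>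
      congrArg Subtype.val (qs_aut_eq h.qs σ hc ⟨x, hx⟩)) hb1
  · push_neg at hc
    obtain ⟨y, hy⟩ := hc
    intro z hz w hw
    refine fix_of_noncentral h.qs (h.phi ha hm) (W := (rng a : AddSubgroup V)) hW hy (fun w hw => ?_) ⟨z, hz⟩ w hw
    rw [map_mul, map_inv, mul_smul, inv_smul_eq_iff]
    show orb a p (cj b y.1) • w = orb a p y.1 • w
    rw [← orb_conj (h.comm b hb a ha), cj_def, mul_smul, mul_smul,
      show b⁻¹ • w = w by rw [inv_smul_eq_iff, hfix w hw]]
    exact hfix _ (hW y w hw)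

/-- `R` when `A` is quadratic and semiregular on the orbit. -/
theorem Ctx.r_of_regular [hp : Fact p.Prime] [Finite V] [Finite G]
    (hN : ∀ c ∈ A, c ∈ Subgroup.normalizer (K : Set G) → c = 1)
    (hq : ∀ a ∈ A, ∀ b ∈ A, ∀ w ∈ rng (V := V) a, b • w = w) {a : G} (ha : a ∈ A) (hm : Moves K a) :
    R p V K a := by
  have hW : ∀ y : ↥K, ∀ w ∈ (rng a : AddSubgroup V), h.phi ha hm y • w ∈ rng a :=
    fun y w hw => smul_mem_rng (h.commute_phi ha hm y.2).symm hw
  intro z hz w hw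
  refine fix_of_commute h.qs (h.phi ha hm) (W := (rng a : AddSubgroup V)) hW (fun y y' w hw => ?_) ⟨z, hz⟩ w hw
  by_cases hex : ∃ b ∈ A, b ∉ Subgroup.zpowers a
  · obtain ⟨b, hb, hbz⟩ := hex
    have hfix : ∀ u ∈ rng (V := V) a, cj b (orb a p y'.1) • u = orb a p y'.1 • u := fun u hu => by
      rw [cj_def, mul_smul, mul_smul, show b⁻¹ • u = u by rw [inv_smul_eq_iff, hq a ha b hb u hu]]
      exact hq a ha b hb _ (hW y' u hu)
    have hcom : Commute (cj b (orb a p y'.1)) (orb a p y.1) := by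
      refine commute_orb p fun i hi => ?_
      rw [orb_conj (h.comm b hb a ha)]
      refine (commute_orb p fun j hj => ?_).symm
      rw [cj_cj]
      refine h.commute_cj (A.pow_mem ha i) (A.mul_mem (A.pow_mem ha j) hb) (fun hn => hbz ?_) y.2 y'.2
      have h1 := hN _ (A.mul_mem (A.inv_mem (A.pow_mem ha i)) (A.mul_mem (A.pow_mem ha j) hb)) hn
      rw [inv_mul_eq_one] at h1
      have : b = (a ^ j)⁻¹ * a ^ i := by rw [h1, inv_mul_cancel_left]
      rw [this]
      exact Subgroup.mul_mem _ (Subgroup.inv_mem _ (Subgroup.pow_mem _ (Subgroup.mem_zpowers a) j))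
        (Subgroup.pow_mem _ (Subgroup.mem_zpowers a) i)
    show orb a p y.1 • orb a p y'.1 • w = orb a p y'.1 • orb a p y.1 • w
    have hyw : orb a p y.1 • w ∈ rng (V := V) a := hW y w hw
    rw [← hfix w hw, ← hfix _ hyw, smul_smul, smul_smul, hcom.eq]
  · push_neg at hex
    have hA : A = Subgroup.zpowers a := le_antisymm hex (Subgroup.zpowers_le.2 ha)
    have hcard : Nat.card A ≤ p := by
      rw [hA, Nat.card_zpowers]
      exact Nat.le_of_dvd hp.out.pos (orderOf_dvd_of_pow_eq_one (h.exp a ha))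
    have hfix : fixS (V := V) G ({a} : Set G) ≤ fixS G (A : Set G) := by
      intro v hv g hg
      rw [hA] at hg
      have : Subgroup.zpowers a ≤ MulAction.stabilizer G v := Subgroup.zpowers_le.2 (hv a rfl)
      exact this hg
    have hle : Nat.card ↥(rng (V := V) a) ≤ p := by
      have h1 := (card_rng (V := V) a).le.trans h.offender
      have h2 : Nat.card ↥(fixS (V := V) G (A : Set G)) ≤ Nat.card ↥(fixS (V := V) G ({a} : Set G)) :=
        AddSubgroup.card_le_of_le (fixS_anti (by simpa using ha))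
      exact (Nat.le_of_mul_le_mul_right (h1.trans (Nat.mul_le_mul_left _ h2)) Nat.card_pos).trans hcard
    rcases eq_or_ne w 0 with rfl | hw0
    · simp
    · have hz : AddSubgroup.zmultiples w = rng a :=
        AddSubgroup.eq_of_le_of_card_ge (AddSubgroup.zmultiples_le.2 hw)
          (by rw [Nat.card_zmultiples, addOrderOf_eq_prime (h.hp w) hw0]; exact hle)
      have hk : ∀ u ∈ rng (V := V) a, ∃ k : ℤ, k • w = u := fun u hu =>
        AddSubgroup.mem_zmultiples_iff.1 (hz ▸ hu)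
      obtain ⟨k, hk1⟩ : ∃ k : ℤ, k • w = orb a p y.1 • w := hk _ (hW y w hw)
      obtain ⟨k', hk2⟩ : ∃ k : ℤ, k • w = orb a p y'.1 • w := hk _ (hW y' w hw)
      show orb a p y.1 • orb a p y'.1 • w = orb a p y'.1 • orb a p y.1 • w
      rw [← hk2, ← hk1, smul_comm (orb a p y.1) k', smul_comm (orb a p y'.1) k, ← hk1, ← hk2,
        smul_comm k k']

/-- A vector fixed by `y` is fixed by the orbit product of `y`. -/
theorem Ctx.orb_fix {a y : G} {m : ℕ} (hap : a ^ p = 1) (hm : m.Coprime p) (hy : y ^ m = 1)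
    (hc : ∀ i < p, ∀ j < p, Commute (cj (a ^ i) y) (cj (a ^ j) y)) (hp0 : 0 < p)
    (hR : ∀ w ∈ rng (V := V) a, orb a p y • w = w) {w : V} (hw : y • w = w) : orb a p y • w = w := by
  set P := orb a p y
  have hyP : Commute y P := commute_orb p fun i hi => by
    have := hc 0 hp0 i hi
    rwa [pow_zero, cj_one] at this
  have haP : Commute a P := commute_orb_self hap fun i hi => by
    have := hc 0 hp0 i hi
    rwa [pow_zero, cj_one] at this
  refine fix_of_unipotent h.hp hm (orb_pow_eq_one hy p hc) (orb_smul_of_fixed ?_ ?_ p)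
  · have := hR _ (mem_rng.2 ⟨w, rfl⟩)
    rw [smul_sub] at this
    rw [smul_sub, smul_smul, haP.eq, mul_smul, sub_eq_sub_iff_sub_eq_sub]
    exact this
  · rw [smul_sub, smul_smul, hyP.eq, mul_smul, hw]

/-- If the orbit product of a noncentral `z` fixes `W`, so does a conjugate component. -/
theorem Ctx.fix_shift [hp : Fact p.Prime] {a : G} (ha : a ∈ A) (hm : Moves K a) {z : G} (hzK : z ∈ K)
    (hz : (⟨z, hzK⟩ : ↥K) ∉ Subgroup.center ↥K) (l : ℕ) {W : Set V}
    (hW : ∀ y ∈ K, ∀ w ∈ W, cj (a ^ l) y • w ∈ W) (hP : ∀ w ∈ W, orb a p z • w = w) :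
    ∀ y ∈ K, ∀ w ∈ W, cj (a ^ l) y • w = w := by
  obtain ⟨g, hg⟩ := exists_commutator_not_center h.qs hz
  let f : ↥K →* G := (MulAut.conj (a ^ l)).toMonoidHom.comp K.subtype
  have hne : g * ⟨z, hzK⟩ * g⁻¹ * ⟨z, hzK⟩⁻¹ ∉ Subgroup.center ↥K := fun hc => hg (by
    have h1 := Subgroup.Normal.conj_mem inferInstance _ hc (⟨z, hzK⟩ : ↥K)⁻¹
    convert h1 using 1; group)
  intro y hy w hw
  refine fix_of_noncentral h.qs f (W := W) (fun y w hw => hW y.1 y.2 w hw) hne (fun w hw => ?_) ⟨y, hy⟩ w hw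
  obtain ⟨n, hn⟩ : ∃ n, p = n + 1 := ⟨p - 1, by have := hp.out.pos; omega⟩
  have hrest : Commute g.1 (cj a (orb a n z)) := by
    rw [orb_cj]
    refine commute_orb n fun i hi => ?_
    have := h.commute_powers ha hm (s := 0) (t := i + 1)
      (by rw [Nat.zero_mod, Nat.mod_eq_of_lt (by omega)]; omega) g.2 hzK
    rwa [pow_zero, cj_one, pow_succ, ← cj_cj] at this
  have hP1 : orb a p z = z * cj a (orb a n z) := by rw [hn, orb_shift]
  have e1 : g.1 * z * g.1⁻¹ * z⁻¹ * orb a p z = cj g.1 (orb a p z) := by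
    rw [hP1]
    generalize cj a (orb a n z) = T at hrest
    rw [cj_def, ← mul_assoc g.1, mul_assoc (g.1 * z) _ g.1⁻¹, ← hrest.inv_left.eq]
    group
  have e2 : cj (a ^ l) (orb a p z) = orb a p z := by
    rw [cj_def, ((h.commute_phi ha hm hzK).pow_left l).eq, mul_inv_cancel_right]
  show cj (a ^ l) (g.1 * z * g.1⁻¹ * z⁻¹) • w = w
  have e3 : cj (a ^ l) (g.1 * z * g.1⁻¹ * z⁻¹) * orb a p z =
      cj (a ^ l) g.1 * orb a p z * (cj (a ^ l) g.1)⁻¹ := by
    conv_lhs => rw [← e2]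
    rw [← map_mul, e1, cj_def g.1, map_mul, map_mul, map_inv]
    exact congrArg (fun t => cj (a ^ l) g.1 * t * (cj (a ^ l) g.1)⁻¹) e2
  have hu := hP w hw
  calc cj (a ^ l) (g.1 * z * g.1⁻¹ * z⁻¹) • w
      = (cj (a ^ l) (g.1 * z * g.1⁻¹ * z⁻¹) * orb a p z) • w := by rw [mul_smul, hu]
    _ = w := by
      rw [e3, mul_smul, mul_smul, hP _ (by
        rw [← map_inv]; exact hW _ (K.inv_mem g.2) w hw), smul_inv_smul]

/-- Noncentral `p'`-elements of `K` act without fixed points. -/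
theorem Ctx.fpf [hp : Fact p.Prime] (hR : ∀ c ∈ A, Moves K c → R p V K c) {a : G} (ha : a ∈ A) (hma : Moves K a)
    {x : G} (hx : x ∈ K) (hxc : (⟨x, hx⟩ : ↥K) ∉ Subgroup.center ↥K) {m : ℕ} (hm : m.Coprime p)
    (hxm : x ^ m = 1) {w : V} (hw : x • w = w) : w = 0 := by
  have key : ∀ c ∈ A, Moves K c → ∀ v : V, x • v = v → ∀ y ∈ K, cj c y • v = v := by
    intro c hc hmc v hv y hy
    have := h.fix_shift hc hmc hx hxc 1 (W := {u : V | x • u = u}) (fun y hy u hu => by
        show x • cj (c ^ 1) y • u = cj (c ^ 1) y • u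
        rw [pow_one, smul_smul, (h.swap c hc hmc x hx y hy).eq, mul_smul, hu])
      (fun u hu => h.orb_fix (h.exp c hc) hm hxm (fun i hi j hj => by
        rcases eq_or_ne i j with rfl | hij
        · exact Commute.refl _
        · exact h.commute_powers hc hmc (by rwa [Nat.mod_eq_of_lt hi, Nat.mod_eq_of_lt hj]) hx hx)
        hp.out.pos (hR c hc hmc x hx) hu) y hy v hv
    rwa [pow_one] at this
  have hK : ∀ y ∈ K, y • w = w := by
    intro y hy
    have hinv : Moves K a⁻¹ := fun hn => hma ((Subgroup.inv_mem_iff _).1 hn)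
    have h1 := key a⁻¹ (A.inv_mem ha) hinv w hw x hx
    have h2 : x • a • w = a • w := by
      rw [cj_def, inv_inv, mul_smul, mul_smul, inv_smul_eq_iff] at h1
      exact h1
    have h3 := key a ha hma _ h2 y hy
    rw [cj_def, mul_smul, mul_smul, inv_smul_smul, smul_left_cancel_iff] at h3
    exact h3
  refine h.eq_zero fun c hc y hy => ?_
  by_cases hmc : Moves K c
  · exact key c hc hmc w hw y hy
  · exact hK _ (cj_mem (not_not.1 hmc) hy)

end

end Cfsg.Agent.PGV
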