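/-
The irreducible case: orbits of odd prime length, and two orbits of length two.
-/
import Cfsg.Agent.Lib.PGV.Core

namespace Cfsg.Agent.PGV

variable {G V : Type*} [Group G] [AddCommGroup V] [DistribMulAction G V] {p : ℕ} {K A : Subgroup G}

/-- A quasisimple group has a noncentral `q`-element with central `q`-th power, for some `q ≠ p`. -/
theorem exists_prime_element [Finite G] [hp : Fact p.Prime] (hK : Cfsg.IsQuasisimple ↥K) :
    ∃ q : ℕ, q.Prime ∧ q ≠ p ∧ ∃ x : ↥K, x ∉ Subgroup.center ↥K ∧ x ^ q ∈ Subgroup.center ↥K ∧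
      ∃ k : ℕ, x ^ q ^ (k + 1) = 1 ∧ x ^ q ^ k ≠ 1 := by
  classical
  obtain ⟨q, hq, hqp, hqdvd⟩ : ∃ q : ℕ, q.Prime ∧ q ≠ p ∧ q ∣ Nat.card (↥K ⧸ Subgroup.center ↥K) := by
    by_contra! hcon
    have hpg : IsPGroup p (↥K ⧸ Subgroup.center ↥K) := by
      intro g
      obtain ⟨e, m, hm, hord⟩ := Nat.exists_eq_pow_mul_and_not_dvd (orderOf_pos g).ne' p hp.out.ne_one
      refine ⟨e, orderOf_dvd_iff_pow_eq_one.1 ?_⟩
      rcases eq_or_ne m 1 with rfl | hm1
      · rw [hord, mul_one]
      · obtain ⟨r, hr, hrm⟩ := Nat.exists_prime_and_dvd hm1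
        refine absurd ((hrm.trans (Dvd.intro_left _ hord.symm)).trans (orderOf_dvd_natCard g)) (hcon r hr ?_)
        rintro rfl
        exact hm hrm
    have := hK.1
    have hnt : Nontrivial (↥K ⧸ Subgroup.center ↥K) := QuotientGroup.nontrivial_iff.2 (Components.IsQuasisimple.center_ne_top hK)
    have := Group.IsPerfect.ofSurjective (QuotientGroup.mk'_surjective (Subgroup.center ↥K))
    exact Group.IsPerfect.not_isNilpotent _ hpg.isNilpotent
  haveI := Fact.mk hq
  obtain ⟨xb, hxb⟩ := exists_prime_orderOf_dvd_card' q hqdvd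
  obtain ⟨x0, rfl⟩ := QuotientGroup.mk'_surjective (Subgroup.center ↥K) xb
  obtain ⟨e, m, hm, hord⟩ := Nat.exists_eq_pow_mul_and_not_dvd (orderOf_pos x0).ne' q hq.ne_one
  have hmem : ∀ n : ℕ, x0 ^ n ∈ Subgroup.center ↥K ↔ q ∣ n := fun n => by
    rw [← QuotientGroup.eq_one_iff, ← hxb, orderOf_dvd_iff_pow_eq_one]
    rfl
  refine ⟨q, hq, hqp, x0 ^ m, fun hc => hm ((hmem m).1 hc), ?_, ?_⟩
  · rw [← pow_mul]; exact (hmem _).2 (dvd_mul_left q m)
  · rcases e with _ | k
    · exfalso
      refine hm ((hmem m).1 ?_)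
      have : x0 ^ m = 1 := orderOf_dvd_iff_pow_eq_one.1 (by rw [hord]; simp)
      rw [this]; exact Subgroup.one_mem _
    · refine ⟨k, ?_, ?_⟩
      · rw [← pow_mul, ← orderOf_dvd_iff_pow_eq_one, hord, mul_comm]
      · rw [← pow_mul, Ne, ← orderOf_dvd_iff_pow_eq_one, hord, mul_comm m]
        intro hd
        have hm0 : 0 < m := Nat.pos_of_ne_zero fun h0 => hm (h0 ▸ dvd_zero q)
        have := Nat.dvd_of_mul_dvd_mul_right hm0 hd
        exact absurd ((Nat.pow_dvd_pow_iff_le_right hq.one_lt).1 this) (by omega)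

theorem cj_pow (a y : G) (n : ℕ) : cj a (y ^ n) = cj a y ^ n := map_pow (MulAut.conj a) y n

theorem cj_mul (a y z : G) : cj a (y * z) = cj a y * cj a z := map_mul (MulAut.conj a) y z

theorem cj_inv (a y : G) : cj a y⁻¹ = (cj a y)⁻¹ := map_inv (MulAut.conj a) y

theorem cj_smul_iff {a y : G} {w : V} : cj a y • w = w ↔ y • a⁻¹ • w = a⁻¹ • w := by
  rw [cj_def, mul_smul, mul_smul]
  constructor
  · intro hh; conv_rhs => rw [← hh, inv_smul_smul]
  · intro hh; rw [hh, smul_inv_smul]

variable (h : Ctx p V K A)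
include h

/-- Odd `p`: no element of `A` moves `K`. -/
theorem Ctx.false_of_odd [hp : Fact p.Prime] [Finite V] [Finite G] (hp2 : p ≠ 2)
    (hR : ∀ c ∈ A, Moves K c → R p V K c) {a : G} (ha : a ∈ A) (hm : Moves K a) : False := by
  obtain ⟨q, hq, hqp, ⟨x, hxK⟩, hxc, hxq, k, hk1, hk0⟩ := exists_prime_element (p := p) h.qs
  haveI := Fact.mk hq
  have hp3 : 3 ≤ p := by have := hp.out.two_le; omega
  have hxm : x ^ q ^ (k + 1) = 1 := congrArg Subtype.val hk1
  have hcop : ∀ n, (q ^ n).Coprime p := fun n =>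
    Nat.Coprime.pow_left _ ((Nat.coprime_primes hq hp.out).2 hqp)
  have hfpf : ∀ {w : V}, x • w = w → w = 0 := fun hw => h.fpf hR ha hm hxK hxc (hcop _) hxm hw
  -- all the factors commute
  have hcx : ∀ s t i j : ℕ, Commute (cj (a ^ s) (x ^ i)) (cj (a ^ t) (x ^ j)) := by
    intro s t i j
    by_cases hst : s % p = t % p
    · have hred : ∀ n, a ^ n = a ^ (n % p) := fun n => by
        conv_lhs => rw [← Nat.mod_add_div n p, pow_add, pow_mul, h.exp a ha, one_pow, mul_one]
      rw [hred s, hred t, hst]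
      exact ((Commute.refl x).pow_pow i j).map (MulAut.conj (a ^ (t % p))).toMonoidHom
    · exact h.commute_powers ha hm hst (K.pow_mem hxK i) (K.pow_mem hxK j)
  have hcx1 : Commute x (cj a x) := by simpa [cj_one] using hcx 0 1 1 1
  -- products with noncentral diagonal are fixed-point-free
  have hj : ∀ i j : ℕ, (⟨x, hxK⟩ : ↥K) ^ (i + j) ∉ Subgroup.center ↥K →
      ∀ w : V, (x ^ i * cj a (x ^ j)) • w = w → w = 0 := by
    intro i j hij w hw
    set y := x ^ i * cj a (x ^ j)
    have hy : y ^ q ^ (k + 1) = 1 := by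
      have hc1 : Commute (x ^ i) (cj a (x ^ j)) := by simpa [cj_one] using hcx 0 1 i j
      rw [hc1.mul_pow, ← map_pow, pow_right_comm x i, pow_right_comm x j, hxm, one_pow, one_pow, map_one, one_mul]
    have hyf : ∀ s, cj (a ^ s) y = cj (a ^ s) (x ^ i) * cj (a ^ (s + 1)) (x ^ j) := fun s => by
      simp only [y, cj, map_mul, pow_succ, MulAut.mul_apply]
    have hycomm : ∀ s t, Commute (cj (a ^ s) y) (cj (a ^ t) y) := fun s t => by
      rw [hyf, hyf]
      exact ((hcx s t i i).mul_right (hcx s (t + 1) i j)).mul_left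
        ((hcx (s + 1) t j i).mul_right (hcx (s + 1) (t + 1) j j))
    have hP : orb a p y = orb a p (x ^ (i + j)) := by
      rw [orb_mul p (fun s hs t ht hst => ?_), ← orb_cj, cj_def,
        (h.commute_phi ha hm (K.pow_mem hxK j)).eq, mul_inv_cancel_right, ← h.orb_map_mul ha hm
          (K.pow_mem hxK i) (K.pow_mem hxK j), pow_add]
      rw [cj_cj, ← pow_succ]
      exact hcx (s + 1) t j i
    have hinv : ∀ g ∈ K, ∀ u ∈ {u : V | y • u = u}, cj (a ^ 2) g • u ∈ {u : V | y • u = u} := by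
      intro g hg u hu
      show y • cj (a ^ 2) g • u = cj (a ^ 2) g • u
      have hc : Commute y (cj (a ^ 2) g) := by
        refine Commute.mul_left ?_ ?_
        · have := h.commute_powers ha hm (s := 0) (t := 2)
            (by rw [Nat.zero_mod, Nat.mod_eq_of_lt hp3]; omega) (K.pow_mem hxK i) hg
          rwa [pow_zero, cj_one] at this
        · have := h.commute_powers ha hm (s := 1) (t := 2)
            (by rw [Nat.mod_eq_of_lt hp3, Nat.mod_eq_of_lt (by omega : 1 < p)]; omega) (K.pow_mem hxK j) hg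
          rwa [pow_one] at this
      rw [smul_smul, hc.eq, mul_smul, (hu : y • u = u)]
    have h2 := h.fix_shift ha hm (K.pow_mem hxK (i + j)) (by simpa using hij) 2 hinv (fun u hu => by
      rw [← hP]
      exact h.orb_fix (h.exp a ha) (hcop _) hy (fun s _ t _ => hycomm s t) hp.out.pos
        (fun v hv => by rw [hP]; exact hR a ha hm _ (K.pow_mem hxK _) v hv) hu) x hxK w hw
    rw [cj_smul_iff] at h2
    exact inv_smul_eq_iff.1 (hfpf h2) |>.trans (smul_zero _)
  -- the element of order `q`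
  set z := x ^ q ^ k
  have hzK : z ∈ K := K.pow_mem hxK _
  have hzq : z ^ q = 1 := by rw [← pow_mul, ← pow_succ]; exact hxm
  have hz1 : z ≠ 1 := fun e => hk0 (Subtype.ext e)
  have hcz : cj a z = cj a x ^ q ^ k := cj_pow a x _
  have hzc : Commute z (cj a z) := by
    rw [hcz]; exact hcx1.pow_pow _ _
  set c := z⁻¹ * cj a z
  have hc : c ^ q = 1 := by
    rw [hzc.inv_left.mul_pow, inv_pow, hzq, ← map_pow, hzq, map_one, inv_one, one_mul]
  have hc0 : rng (V := V) c = ⊥ := by
    by_contra hne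
    have hcg : ∀ g, Commute g z → Commute g (cj a z) → Commute g c := fun g h1 h2 => h1.inv_right.mul_right h2
    obtain ⟨j, w, hwW, hw0, hw⟩ := exists_fixed_combination (V := V) (p := p) hcx1 hxm
      (show (cj a x) ^ q ^ (k + 1) = 1 by rw [← map_pow, hxm, map_one]) (rng c) hne
      (fun w hw => smul_mem_rng (hcg x (Commute.pow_right (Commute.refl x) _)
        (by rw [hcz]; exact hcx1.pow_right _)) hw)
      (fun w hw => smul_mem_rng (hcg (cj a x) (hcx1.symm.pow_right _)
        (by rw [hcz]; exact (Commute.refl _).pow_right _)) hw)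
    have hd : q ∣ 1 + j := by
      by_contra hd
      have hij : ∀ n, n = 1 + j → (⟨x, hxK⟩ : ↥K) ^ n ∉ Subgroup.center ↥K := by
        intro n hn hc'
        obtain ⟨u, -, hu⟩ := Nat.exists_mul_mod_eq_one_of_coprime
          ((hq.coprime_iff_not_dvd.2 hd).symm) hq.one_lt
        refine hxc ?_
        rw [show (⟨x, hxK⟩ : ↥K) = ⟨x, hxK⟩ ^ 1 from (pow_one _).symm, ← hu]
        have hmod : (⟨x, hxK⟩ : ↥K) ^ ((1 + j) * u) = ⟨x, hxK⟩ ^ ((1 + j) * u % q) *
            (⟨x, hxK⟩ ^ q) ^ ((1 + j) * u / q) := by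
          rw [← pow_mul, ← pow_add, Nat.mod_add_div]
        have h1 : (⟨x, hxK⟩ : ↥K) ^ ((1 + j) * u) ∈ Subgroup.center ↥K := by
          rw [pow_mul, ← hn]; exact Subgroup.pow_mem _ hc' u
        rw [hmod] at h1
        exact (Subgroup.mul_mem_cancel_right _ (Subgroup.pow_mem _ hxq _)).1 h1
      rcases hw with hw | hw
      · exact hw0 (hj 1 j (hij _ rfl) w (by rwa [pow_one, cj_pow]))
      · exact hw0 (hj j 1 (hij _ (by omega)) w (by rwa [pow_one]))
    have hzj : z ^ j = z⁻¹ := by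
      rw [eq_inv_iff_mul_eq_one, ← pow_succ]
      obtain ⟨e, he⟩ := hd
      rw [show j + 1 = q * e by omega, pow_mul, hzq, one_pow]
    have hcw : c • w = w := by
      have hiter : ∀ g : G, g • w = w → ∀ n : ℕ, g ^ n • w = w := by
        intro g hg n
        induction n with
        | zero => simp
        | succ n ih => rw [pow_succ, mul_smul, hg, ih]
      rcases hw with hw | hw
      · have h1 := hiter _ hw (q ^ k)
        rw [(hcx1.pow_right j).mul_pow, ← pow_mul, mul_comm j, pow_mul, ← map_pow, ← map_pow, hzj,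
          map_inv] at h1
        rw [show z * (cj a z)⁻¹ = c⁻¹ by
          rw [mul_inv_rev, inv_inv]; exact hzc.inv_right.eq] at h1
        rwa [inv_smul_eq_iff, eq_comm] at h1
      · have h1 := hiter _ hw (q ^ k)
        rw [(hcx1.pow_left j).mul_pow, ← pow_mul, mul_comm j, pow_mul, ← map_pow, hzj] at h1
        exact h1
    obtain ⟨v, rfl⟩ := mem_rng.1 hwW
    exact hw0 (sub_eq_zero.2 (fix_of_unipotent h.hp (by simpa using hcop 1) hc hcw))
  have hze : cj a z = z := by
    have : c = 1 := h.faith c fun v => sub_eq_zero.1 (by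
      have : c • v - v ∈ rng (V := V) c := mem_rng.2 ⟨v, rfl⟩
      rwa [hc0] at this)
    exact (inv_mul_eq_one.1 this).symm
  have hzZ : (⟨z, hzK⟩ : ↥K) ∈ Subgroup.center ↥K := h.center_of_eq_cj ha hm hzK hzK hze.symm
  rcases Nat.eq_zero_or_pos k with rfl | hk
  · exact hxc (by simpa [z] using hzZ)
  have hza : Commute z a := by
    rw [cj_def, mul_inv_eq_iff_eq_mul] at hze; exact hze.symm
  -- `z` fixes `[V, a]`
  have horb : ∀ n, orb a n z = z ^ n := fun n => by
    induction n with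
    | zero => simp [orb]
    | succ n ih =>
      rw [orb_succ, ih, pow_succ, cj_def, ← (hza.pow_right n).eq, mul_inv_cancel_right]
  have hzfix : ∀ w ∈ rng (V := V) a, z • w = w := by
    intro w hw
    have h1 := hR a ha hm z hzK w hw
    rw [horb] at h1
    obtain ⟨u, -, hu⟩ := Nat.exists_mul_mod_eq_one_of_coprime ((Nat.coprime_primes hp.out hq).2 (Ne.symm hqp)) hq.one_lt
    have h2 : Subgroup.zpowers (z ^ p) ≤ MulAction.stabilizer G w := Subgroup.zpowers_le.2 h1
    have h3 : z = (z ^ p) ^ u := by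
      rw [← pow_mul, ← Nat.mod_add_div (p * u) q, hu, pow_add, pow_one, pow_mul, hzq, one_pow, mul_one]
    have h4 : (z ^ p) ^ u • w = w := h2 (Subgroup.pow_mem _ (Subgroup.mem_zpowers _) u)
    rwa [← h3] at h4
  have hafix : ∀ w ∈ rng (V := V) z, a • w = w := by
    intro w hw
    obtain ⟨v, rfl⟩ := mem_rng.1 hw
    have h1 := hzfix _ (mem_rng.2 ⟨v, rfl⟩)
    rw [smul_sub, smul_smul, hza.eq, mul_smul] at h1
    rw [smul_sub, sub_eq_sub_iff_sub_eq_sub]
    exact h1
  have hWK : ∀ y : ↥K, ∀ w ∈ (rng z : AddSubgroup V), y.1 • w ∈ rng z := fun y w hw =>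
    smul_mem_rng (congrArg Subtype.val (Subgroup.mem_center_iff.1 hzZ y)) hw
  have hsame : ∀ (y : ↥K), ∀ w ∈ rng (V := V) z, cj a y.1 • w = y.1 • w := fun y w hw => by
    rw [cj_def, mul_smul, mul_smul, show a⁻¹ • w = w by rw [inv_smul_eq_iff, hafix w hw],
      hafix _ (hWK y w hw)]
  have hall := fix_of_commute h.qs K.subtype (W := ((rng z : AddSubgroup V) : Set V)) hWK (fun y y' w hw => by
    show y.1 • y'.1 • w = y'.1 • y.1 • w
    rw [← hsame y' w hw, smul_smul, (h.swap a ha hm y.1 y.2 y'.1 y'.2).eq, mul_smul,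
      hsame y' _ (hWK y w hw)]) ⟨z, hzK⟩
  refine hz1 (h.faith z fun v => ?_)
  exact fix_of_unipotent h.hp (by simpa using hcop 1) hzq (hall _ (mem_rng.2 ⟨v, rfl⟩))

/-- `p = 2`: no fours-group of `A` acts regularly on conjugates of `K`. -/
theorem Ctx.false_of_four [Finite V] [Finite G] [hp : Fact p.Prime] (hp2 : p = 2)
    (hR : ∀ c ∈ A, Moves K c → R p V K c) {a b : G} (ha : a ∈ A) (hb : b ∈ A) (hma : Moves K a)
    (hmb : Moves K b) (hmab : Moves K (a * b)) : False := by
  subst hp2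
  obtain ⟨q, hq, hq2, ⟨x, hxK⟩, hxc, hxq, k, hk1, hk0⟩ := exists_prime_element (p := 2) h.qs
  haveI := Fact.mk hq
  have hcop : ∀ n, (q ^ n).Coprime 2 := fun n =>
    Nat.Coprime.pow_left _ ((Nat.coprime_primes hq Nat.prime_two).2 hq2)
  have hxm : x ^ q ^ (k + 1) = 1 := congrArg Subtype.val hk1
  have haa : ∀ c ∈ A, c⁻¹ = c := fun c hc => by
    rw [inv_eq_iff_mul_eq_one, ← pow_two]; exact h.exp c hc
  have key : ∀ j : ℕ, ∀ w : V, (x * cj b (x ^ j)) • w = w → w = 0 := by
    intro j w hw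
    set u := x ^ j
    have huK : u ∈ K := K.pow_mem hxK j
    set y := x * cj b u
    have c1 : Commute x (cj b u) := h.swap b hb hmb x hxK u huK
    have c2 : ∀ g ∈ K, Commute y (cj a g) := fun g hg =>
      (h.swap a ha hma x hxK g hg).mul_left (h.commute_cj hb ha (by
        rw [haa b hb, h.comm b hb a ha]; exact hmab) huK hg)
    have hay : cj a y = cj a x * cj (a * b) u := by simp only [y, cj, map_mul, MulAut.mul_apply]
    have c4 : Commute y (cj a y) := by
      rw [hay]
      refine (c2 x hxK).mul_right (Commute.mul_left (h.swap _ (A.mul_mem ha hb) hmab x hxK u huK) ?_)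
      refine h.commute_cj hb (A.mul_mem ha hb) ?_ huK huK
      rw [h.comm a ha b hb, inv_mul_cancel_left]; exact hma
    have hy : y ^ q ^ (k + 1) = 1 := by
      rw [c1.mul_pow, ← map_pow, pow_right_comm x j, hxm, one_pow, map_one, one_mul]
    have hR' : ∀ v ∈ rng (V := V) a, orb a 2 y • v = v := by
      intro v hv
      have h1 : orb a 2 y = orb a 2 x * cj b (orb a 2 u) := by
        rw [orb_mul 2 (fun s hs t ht hst => ?_), orb_conj (h.comm b hb a ha)]
        rw [cj_cj]
        refine h.commute_cj (A.mul_mem (A.pow_mem ha s) hb) (A.pow_mem ha t) ?_ huK hxK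
        rcases (by omega : s = 0 ∧ t = 1 ∨ s = 1 ∧ t = 0) with ⟨rfl, rfl⟩ | ⟨rfl, rfl⟩
        · rw [pow_zero, one_mul, pow_one, haa b hb, h.comm b hb a ha]; exact hmab
        · rw [pow_one, pow_zero, mul_one, haa _ (A.mul_mem ha hb)]; exact hmab
      have hbv : b⁻¹ • v ∈ rng (V := V) a := smul_mem_rng (Commute.inv_left (h.comm b hb a ha)) hv
      rw [h1, mul_smul, cj_def, mul_smul, mul_smul, hR a ha hma u huK _ hbv, smul_inv_smul,
        hR a ha hma x hxK v hv]
    have hfix : ∀ v : V, y • v = v → cj a y • v = v := by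
      intro v hv
      have h1 := h.orb_fix (h.exp a ha) (hcop _) hy (fun s hs t ht => by
        rcases (by omega : s = t ∨ (s = 0 ∧ t = 1) ∨ (s = 1 ∧ t = 0)) with rfl | ⟨rfl, rfl⟩ | ⟨rfl, rfl⟩
        · exact Commute.refl _
        · rw [pow_zero, cj_one, pow_one]; exact c4
        · rw [pow_zero, cj_one, pow_one]; exact c4.symm) (by norm_num) hR' hv
      rw [orb_two, c4.eq, mul_smul, hv] at h1
      exact h1
    obtain ⟨g, hg⟩ := exists_commutator_not_center h.qs hxc
    have hne : g * ⟨x, hxK⟩ * g⁻¹ * ⟨x, hxK⟩⁻¹ ∉ Subgroup.center ↥K := fun hc => hg (by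
      have h1 := Subgroup.Normal.conj_mem inferInstance _ hc (⟨x, hxK⟩ : ↥K)⁻¹
      convert h1 using 1; group)
    have hinv : ∀ t : ↥K, ∀ v ∈ {v : V | y • v = v}, cj a t.1 • v ∈ {v : V | y • v = v} := fun t v hv => by
      show y • cj a t.1 • v = cj a t.1 • v
      rw [smul_smul, (c2 t t.2).eq, mul_smul, (hv : y • v = v)]
    have hall := fix_of_noncentral h.qs ((MulAut.conj a).toMonoidHom.comp K.subtype)
      (W := {v : V | y • v = v}) hinv hne (fun v hv => ?_) ⟨x, hxK⟩ w hw
    · rw [show (((MulAut.conj a).toMonoidHom.comp K.subtype) ⟨x, hxK⟩) = cj a x from rfl, cj_smul_iff] at hall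
      exact inv_smul_eq_iff.1 (h.fpf hR ha hma hxK hxc (hcop _) hxm hall) |>.trans (smul_zero _)
    · show cj a (g.1 * x * g.1⁻¹ * x⁻¹) • v = v
      have hgu : Commute g.1 (cj b u) := h.swap b hb hmb g.1 g.2 u huK
      have e : g.1 * x * g.1⁻¹ * x⁻¹ = g.1 * y * g.1⁻¹ * y⁻¹ := by
        simp only [y, mul_inv_rev, mul_assoc]
        rw [← mul_assoc (cj b u) g.1⁻¹, ← hgu.inv_left.eq, mul_assoc, mul_inv_cancel_left]
      rw [e, cj_mul, cj_mul, cj_mul, cj_inv, cj_inv, mul_smul, mul_smul, mul_smul]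
      have hv' : y • v = v := hv
      have hgv : y • (cj a g.1)⁻¹ • v = (cj a g.1)⁻¹ • v := by
        rw [smul_smul, (c2 g.1 g.2).inv_right.eq, mul_smul, hv']
      change cj a g.1 • cj a y • (cj a g.1)⁻¹ • (cj a y)⁻¹ • v = v
      rw [show (cj a y)⁻¹ • v = v by rw [inv_smul_eq_iff, hfix v hv'], hfix _ hgv, smul_inv_smul]
  have hcxb : Commute x (cj b x) := h.swap b hb hmb x hxK x hxK
  have hne : (⊤ : AddSubgroup V) ≠ ⊥ := by
    intro htop
    refine hxc ?_
    have hv : ∀ v : V, x • v = v := fun v => by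
      have h0 : ∀ u : V, u = 0 := fun u =>
        AddSubgroup.mem_bot.1 (htop ▸ AddSubgroup.mem_top u)
      rw [h0 v, smul_zero]
    rw [show (⟨x, hxK⟩ : ↥K) = 1 from Subtype.ext (h.faith x hv)]
    exact Subgroup.one_mem _
  obtain ⟨j, w, -, hw0, hw⟩ := exists_fixed_combination (V := V) (p := 2) hcxb hxm
    (show (cj b x) ^ q ^ (k + 1) = 1 by rw [← map_pow, hxm, map_one]) ⊤ hne
    (fun _ _ => AddSubgroup.mem_top _) (fun _ _ => AddSubgroup.mem_top _)
  rcases hw with hw | hw
  · exact hw0 (key j w (by rwa [cj_pow]))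
  · have h1 : (x * cj b (x ^ j)) • b • w = b • w := by
      have e : x * cj b (x ^ j) = b * (x ^ j * cj b x) * b⁻¹ := by
        have e1 : b * (x ^ j * cj b x) * b⁻¹ = cj b (x ^ j) * cj (b * b) x := by simp only [cj_def]; group
        rw [e1, ← pow_two b, h.exp b hb, cj_one]
        exact (h.swap b hb hmb x hxK _ (K.pow_mem hxK j)).eq
      rw [e, mul_smul, mul_smul, inv_smul_smul, hw]
    exact hw0 (by have := key j _ h1; rw [← inv_smul_smul b w, this, smul_zero])

end Cfsg.Agent.PGV
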