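/-
The irreducible case: an orbit of length two; conclusion of the irreducible case.
-/
import Cfsg.Agent.Lib.PGV.Many
import Cfsg.Agent.Lib.Involution.BaerSuzuki
import Cfsg.Agent.Lib.CharApp.Burnside

namespace Cfsg.Agent.PGV

variable {G V : Type*} [Group G] [AddCommGroup V] [DistribMulAction G V] {p : ℕ} {K A : Subgroup G}

theorem index_fixS [Finite V] (a : G) :
    (fixS (V := V) G {a}).index = Nat.card ↥(rng (V := V) a) :=
  Nat.eq_of_mul_eq_mul_right (Nat.card_pos (α := ↥(fixS (V := V) G {a})))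
    ((AddSubgroup.index_mul_card _).trans (card_rng a).symm)

theorem card_fixS_conj [Finite V] (a y : G) :
    Nat.card ↥(fixS (V := V) G {y⁻¹ * a * y}) = Nat.card ↥(fixS (V := V) G {a}) := by
  refine Nat.card_congr
    { toFun := fun v => ⟨y • v.1, ?_⟩, invFun := fun v => ⟨y⁻¹ • v.1, ?_⟩,
      left_inv := fun v => Subtype.ext (inv_smul_smul _ _), right_inv := fun v => Subtype.ext (smul_inv_smul _ _) }
  · rintro g rfl
    have h1 : (y⁻¹ * g * y) • v.1 = v.1 := v.2 _ rfl
    rw [mul_smul, mul_smul, inv_smul_eq_iff] at h1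
    exact h1
  · rintro g rfl
    rw [mul_smul, mul_smul, smul_inv_smul, v.2 a rfl]

/-- An involution normalizing a quasisimple `K` without centralizing it inverts a noncentral element
of odd order of `K`. -/
theorem exists_inverted [Finite G] (hK : Cfsg.IsQuasisimple ↥K) {b : G}
    (hbN : b ∈ Subgroup.normalizer (K : Set G)) (hb : b ^ 2 = 1) (hnc : ¬ ∀ x ∈ K, cj b x = x) :
    ∃ x : ↥K, x ∉ Subgroup.center ↥K ∧ ∃ m : ℕ, Odd m ∧ x ^ m = 1 ∧ cj b x.1 = x.1⁻¹ := by
  classical
  haveI := Fact.mk Nat.prime_two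
  set X := K ⊔ Subgroup.zpowers b with hXdef
  have hbX : b ∈ X := Subgroup.mem_sup_right (Subgroup.mem_zpowers b)
  have hKX : K ≤ X := le_sup_left
  have hXK : X ≤ Subgroup.normalizer (K : Set G) := sup_le Subgroup.le_normalizer (Subgroup.zpowers_le.2 hbN)
  set Z' := ((Subgroup.center ↥K).map K.subtype).subgroupOf X
  haveI hZ : Z'.Normal := by
    refine ⟨fun n hn g => ?_⟩
    rw [Subgroup.mem_subgroupOf, Components.center_map_subtype] at hn ⊢
    refine ⟨(Subgroup.mem_normalizer_iff.1 (hXK g.2) _).1 hn.1, Subgroup.mem_centralizer_iff.2 fun k hk => ?_⟩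
    have hk' : g.1⁻¹ * k * g.1 ∈ K := by
      have := cj_mem (inv_mem (hXK g.2)) hk
      rwa [cj_def, inv_inv] at this
    have h1 := Subgroup.mem_centralizer_iff.1 hn.2 _ hk'
    simp only [Subgroup.coe_mul, InvMemClass.coe_inv]
    calc k * (g.1 * n.1 * g.1⁻¹) = g.1 * (g.1⁻¹ * k * g.1 * n.1) * g.1⁻¹ := by group
      _ = g.1 * n.1 * g.1⁻¹ * k := by rw [h1]; group
  let π : ↥K →* ↥X ⧸ Z' := (QuotientGroup.mk' Z').comp (Subgroup.inclusion hKX)
  have hπ : ∀ y : ↥K, π y = 1 ↔ y ∈ Subgroup.center ↥K := fun y => by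
    show QuotientGroup.mk' Z' (Subgroup.inclusion hKX y) = 1 ↔ _
    rw [QuotientGroup.mk'_apply, QuotientGroup.eq_one_iff, Subgroup.mem_subgroupOf]
    constructor
    · rintro ⟨y', hy', e⟩; rwa [Subtype.ext (show y'.1 = y.1 from e)] at hy'
    · exact fun hy => ⟨y, hy, rfl⟩
  let σ : ↥K →* ↥K := MonoidHom.mk' (fun y => ⟨cj b y.1, cj_mem hbN y.2⟩)
    fun u v => Subtype.ext (map_mul (MulAut.conj b) u.1 v.1)
  set bq := QuotientGroup.mk' Z' ⟨b, hbX⟩
  have hσ : ∀ y, π (σ y) = bq * π y * bq⁻¹ := fun y => by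
    show QuotientGroup.mk' Z' _ = QuotientGroup.mk' Z' _ * QuotientGroup.mk' Z' _ * (QuotientGroup.mk' Z' _)⁻¹
    rw [← map_inv, ← map_mul, ← map_mul]
    exact congrArg _ (Subtype.ext rfl)
  have hb1 : bq ≠ 1 := by
    intro e
    refine hnc fun x hx => ?_
    have h1 := (QuotientGroup.eq_one_iff _).1 e
    rw [Subgroup.mem_subgroupOf, Components.center_map_subtype] at h1
    rw [cj_def, ← Subgroup.mem_centralizer_iff.1 h1.2 x hx, mul_inv_cancel_right]
  have hb2 : bq ^ 2 = 1 := by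
    rw [← map_pow, show (⟨b, hbX⟩ : ↥X) ^ 2 = 1 from Subtype.ext hb, map_one]
  have hbinv : b⁻¹ = b := by rw [inv_eq_iff_mul_eq_one, ← pow_two, hb]
  by_contra hcon
  push_neg at hcon
  -- every product of two conjugates is a 2-element modulo the centre
  have hpow : ∀ k : ↥K, ∃ e : ℕ, (bq * (π k * bq * (π k)⁻¹)) ^ (2 ^ e) = 1 := by
    intro k
    set z := σ k * k⁻¹
    have hz : π z = bq * (π k * bq * (π k)⁻¹) := by
      rw [map_mul, hσ, map_inv]
      have : bq⁻¹ = bq := by rw [inv_eq_iff_mul_eq_one, ← pow_two, hb2]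
      rw [this]; group
    have hσz : σ z = z⁻¹ := by
      apply Subtype.ext
      show cj b (cj b k.1 * k.1⁻¹) = (cj b k.1 * k.1⁻¹)⁻¹
      rw [cj_mul, cj_cj, ← pow_two, hb, cj_one, cj_inv, mul_inv_rev, inv_inv]
    obtain ⟨e, m, hm, hord⟩ := Nat.exists_eq_pow_mul_and_not_dvd (orderOf_pos z).ne' 2 (by norm_num)
    refine ⟨e, ?_⟩
    rw [← hz, ← map_pow, hπ]
    by_contra hc
    refine hcon (z ^ 2 ^ e) hc m (Nat.odd_iff.2 (Nat.two_dvd_ne_zero.1 hm)) ?_ ?_
    · rw [← pow_mul, ← hord, pow_orderOf_eq_one]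
    · have h1 := congrArg Subtype.val (map_pow σ z (2 ^ e))
      rw [hσz, inv_pow] at h1
      exact h1
  have hall : ∀ g : ↥X ⧸ Z', IsPGroup 2 ↥(Subgroup.closure ({bq, g * bq * g⁻¹} : Set (↥X ⧸ Z'))) := by
    intro g
    obtain ⟨⟨g0, hg0⟩, rfl⟩ := QuotientGroup.mk'_surjective Z' g
    obtain ⟨k, hk, c, hc, rfl⟩ : ∃ k ∈ K, ∃ c ∈ Subgroup.zpowers b, k * c = g0 := by
      have h0 : g0 ∈ ((K ⊔ Subgroup.zpowers b : Subgroup G) : Set G) := hg0
      rw [Subgroup.coe_mul_of_right_le_normalizer_left _ _ (Subgroup.zpowers_le.2 hbN), Set.mem_mul] at h0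
      obtain ⟨k, hk, c, hc, e⟩ := h0
      exact ⟨k, hk, c, hc, e⟩
    obtain ⟨i, rfl⟩ := Subgroup.mem_zpowers_iff.1 hc
    have e1 : QuotientGroup.mk' Z' ⟨k * b ^ i, hg0⟩ * bq * (QuotientGroup.mk' Z' ⟨k * b ^ i, hg0⟩)⁻¹ =
        π ⟨k, hk⟩ * bq * (π ⟨k, hk⟩)⁻¹ := by
      show QuotientGroup.mk' Z' _ * QuotientGroup.mk' Z' _ * (QuotientGroup.mk' Z' _)⁻¹ =
        QuotientGroup.mk' Z' _ * QuotientGroup.mk' Z' _ * (QuotientGroup.mk' Z' _)⁻¹
      rw [← map_inv, ← map_mul, ← map_mul, ← map_inv, ← map_mul, ← map_mul]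
      refine congrArg _ (Subtype.ext ?_)
      show k * b ^ i * b * (k * b ^ i)⁻¹ = k * b * k⁻¹
      group
    rw [e1]
    rcases eq_or_ne bq (π ⟨k, hk⟩ * bq * (π ⟨k, hk⟩)⁻¹) with e | hne
    · rw [← e, Set.pair_eq_singleton, ← Subgroup.zpowers_eq_closure]
      refine IsPGroup.of_card (n := 1) ?_
      rw [Nat.card_zpowers, orderOf_eq_prime hb2 hb1, pow_one]
    · obtain ⟨e, he⟩ := hpow ⟨k, hk⟩
      have h2 : orderOf bq = 2 := orderOf_eq_prime hb2 hb1
      exact Involution.isPGroup_closure_pair h2 (by rw [Involution.orderOf_conj]; exact h2) hne he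
  have hM := Involution.baer_suzuki_element bq hall
  set M := Subgroup.normalClosure ({bq} : Set (↥X ⧸ Z'))
  rcases Components.IsQuasisimple.normal_eq_top_or_le_center hK (M.comap π) with hS | hS
  · have hr : IsPGroup 2 ↥π.range := hM.to_le (by
      rintro _ ⟨y, rfl⟩
      exact (hS ▸ Subgroup.mem_top y : y ∈ M.comap π))
    have := hK.1
    haveI := Group.IsPerfect.ofSurjective π.rangeRestrict_surjective
    haveI : Nontrivial ↥π.range := by
      rw [Subgroup.nontrivial_iff_ne_bot, Ne, MonoidHom.range_eq_bot_iff]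
      intro h1
      exact Components.IsQuasisimple.center_ne_top hK (eq_top_iff.2 fun y _ => (hπ y).1 (by rw [h1]; rfl))
    exact Group.IsPerfect.not_isNilpotent _ hr.isNilpotent
  · refine hnc fun x hx => congrArg Subtype.val (qs_aut_eq hK σ (fun y => ?_) ⟨x, hx⟩)
    refine hS ?_
    rw [Subgroup.mem_comap, map_mul, map_inv, hσ]
    have hbM : bq ∈ M := Subgroup.subset_normalClosure (Set.mem_singleton bq)
    have h2 := M.mul_mem (Subgroup.Normal.conj_mem Subgroup.normalClosure_normal bq hbM (π y)⁻¹) (M.inv_mem hbM)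
    rw [inv_inv] at h2
    have e : (π y)⁻¹ * (bq * π y * bq⁻¹) = (π y)⁻¹ * bq * π y * bq⁻¹ := by group
    rwa [e]

variable (h : Ctx p V K A)
include h

/-- No involution of `A` moving `K` induces a transvection. -/
theorem Ctx.false_of_transvection [Finite V] [Finite G] [hp : Fact p.Prime] (hp2 : p = 2) {a : G}
    (ha : a ∈ A) (hm : Moves K a) (hr : Nat.card ↥(rng (V := V) a) ≤ 2) : False := by
  classical
  subst hp2
  have hexp : ∀ y : ↥K, y ^ 12 ∈ Subgroup.center ↥K := by
    intro y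
    set g := y.1⁻¹ * cj a y.1
    set W : AddSubgroup V := fixS G {a} ⊓ fixS G {y.1⁻¹ * a * y.1}
    have hg : ∀ w ∈ W, g • w = w := by
      intro w hw
      have h1 : a • w = w := hw.1 a rfl
      have h2 : (y.1⁻¹ * a * y.1) • w = w := hw.2 _ rfl
      rw [show g = (y.1⁻¹ * a * y.1) * a⁻¹ by simp only [g, cj_def]; group, mul_smul,
        show a⁻¹ • w = w by rw [inv_smul_eq_iff, h1], h2]
    have hidx : Nat.card (V ⧸ W) ≤ 4 := by
      rw [← AddSubgroup.index_eq_card]
      refine AddSubgroup.index_inf_le.trans ?_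
      rw [index_fixS, index_fixS]
      have : Nat.card ↥(rng (V := V) (y.1⁻¹ * a * y.1)) = Nat.card ↥(rng (V := V) a) :=
        Nat.eq_of_mul_eq_mul_right (Nat.card_pos (α := ↥(fixS (V := V) G {a})))
          (by conv_lhs => rw [← card_fixS_conj a y.1]
              rw [card_rng, card_rng])
      rw [this]; exact Nat.mul_le_mul hr hr
    have hgW : ∀ (n : ℕ), ∀ w ∈ W, g ^ n • w = w := by
      intro n w hw
      induction n with
      | zero => simp
      | succ n ih => rw [pow_succ, mul_smul, hg w hw, ih]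
    have h6 : ∀ v : V, g ^ 6 • v - v ∈ W := by
      intro v
      have hWg : ∀ (n : ℕ) (u : V), u ∈ W ↔ g ^ n • u ∈ W := fun n u =>
        ⟨fun hu => by rw [hgW n u hu]; exact hu, fun hu => by
          have h1 := hgW n _ hu
          rw [smul_left_cancel_iff] at h1
          rwa [h1] at hu⟩
      obtain ⟨d, hd0, hd3, hd⟩ : ∃ d, 0 < d ∧ d ≤ 3 ∧ g ^ d • v - v ∈ W := by
        by_cases hv : v ∈ W
        · exact ⟨1, one_pos, by norm_num, W.sub_mem ((hWg 1 v).1 hv) hv⟩
        by_contra! hcon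
        have hinj : Function.Injective (fun o : Option (Fin 4) =>
            (o.elim 0 fun i => QuotientAddGroup.mk (g ^ i.1 • v) : V ⧸ W)) := by
          have hne : ∀ i : Fin 4, (QuotientAddGroup.mk (g ^ i.1 • v) : V ⧸ W) ≠ 0 := fun i hi =>
            hv ((hWg i.1 v).2 ((QuotientAddGroup.eq_zero_iff _).1 hi))
          have hlt : ∀ i j : Fin 4, i.1 < j.1 →
              (QuotientAddGroup.mk (g ^ i.1 • v) : V ⧸ W) ≠ QuotientAddGroup.mk (g ^ j.1 • v) := by
            intro i j hij he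
            rw [eq_comm, QuotientAddGroup.eq_iff_sub_mem] at he
            refine hcon (j.1 - i.1) (by omega) (by omega) ((hWg i.1 _).2 ?_)
            rwa [smul_sub, smul_smul, ← pow_add, Nat.add_sub_cancel' hij.le]
          rintro (_ | i) (_ | j) e
          · rfl
          · exact absurd e.symm (hne j)
          · exact absurd e (hne i)
          · rcases lt_trichotomy i.1 j.1 with hl | hl | hl
            · exact absurd e (hlt i j hl)
            · exact congrArg some (Fin.ext hl)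
            · exact absurd e.symm (hlt j i hl)
        have := (Nat.card_le_card_of_injective _ hinj).trans hidx
        simp at this
      have hsteps : ∀ n : ℕ, g ^ (d * n) • v - v ∈ W := by
        intro n
        induction n with
        | zero => simp
        | succ n ih =>
          have e : g ^ (d * (n + 1)) • v - v = g ^ (d * n) • (g ^ d • v - v) + (g ^ (d * n) • v - v) := by
            rw [Nat.mul_succ, pow_add, mul_smul, smul_sub]; abel
          rw [e, hgW _ _ hd]
          exact W.add_mem hd ih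
      obtain ⟨n, hn⟩ : d ∣ 6 := by interval_cases d <;> norm_num
      rw [hn]; exact hsteps n
    have h12 : g ^ 12 = 1 := h.faith _ fun v => by
      have h1 := hgW 6 _ (h6 v)
      have h2 : g ^ 12 • v - v = 2 • (g ^ 6 • v - v) := by
        rw [two_nsmul]
        conv_rhs => arg 1; rw [← h1]
        rw [smul_sub, smul_smul, ← pow_add]; abel
      rwa [h.hp, sub_eq_zero] at h2
    have hc : Commute y.1⁻¹ (cj a y.1) := (h.swap a ha hm y.1 y.2 y.1 y.2).inv_left
    rw [hc.mul_pow, inv_pow, inv_mul_eq_one, ← cj_pow] at h12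
    exact h.center_of_eq_cj ha hm (K.pow_mem y.2 12) (K.pow_mem y.2 12) h12
  set Q := ↥K ⧸ Subgroup.center ↥K
  have hpr : ∀ r : ℕ, r.Prime → r ∣ Nat.card Q → r = 2 ∨ r = 3 := by
    intro r hr hd
    haveI := Fact.mk hr
    obtain ⟨u, hu⟩ := exists_prime_orderOf_dvd_card' r hd
    obtain ⟨u0, rfl⟩ := QuotientGroup.mk'_surjective (Subgroup.center ↥K) u
    have h1 : r ∣ 12 := by
      rw [← hu]
      refine orderOf_dvd_of_pow_eq_one ?_
      rw [← map_pow, QuotientGroup.mk'_apply, QuotientGroup.eq_one_iff]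
      exact hexp u0
    have h2 : r ∣ 2 * (2 * 3) := h1
    rcases hr.dvd_mul.1 h2 with h2 | h2
    · exact Or.inl ((Nat.prime_dvd_prime_iff_eq hr Nat.prime_two).1 h2)
    · rcases hr.dvd_mul.1 h2 with h2 | h2
      · exact Or.inl ((Nat.prime_dvd_prime_iff_eq hr Nat.prime_two).1 h2)
      · exact Or.inr ((Nat.prime_dvd_prime_iff_eq hr Nat.prime_three).1 h2)
  obtain ⟨i, m, hm2, hcard⟩ := Nat.exists_eq_pow_mul_and_not_dvd (Nat.card_pos (α := Q)).ne' 2 (by norm_num)
  obtain ⟨j, m', hm3, hcard'⟩ := Nat.exists_eq_pow_mul_and_not_dvd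
    (show m ≠ 0 from fun e => hm2 (e ▸ dvd_zero 2)) 3 (by norm_num)
  have hm1 : m' = 1 := by
    by_contra hne
    obtain ⟨r, hr, hrm⟩ := Nat.exists_prime_and_dvd hne
    have hrm' : r ∣ m := hrm.trans (Dvd.intro_left _ hcard'.symm)
    rcases hpr r hr (hrm'.trans (Dvd.intro_left _ hcard.symm)) with rfl | rfl
    · exact hm2 hrm'
    · exact hm3 hrm
  rw [hm1, mul_one] at hcard'
  rw [hcard'] at hcard
  have hsol := CharApp.isSolvable_of_card_eq_prime_pow_mul 2 3 Nat.prime_two Nat.prime_three _ Q rfl i j hcard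
  have := h.qs.1
  haveI : Nontrivial Q := QuotientGroup.nontrivial_iff.2 (Components.IsQuasisimple.center_ne_top h.qs)
  haveI := Group.IsPerfect.ofSurjective (QuotientGroup.mk'_surjective (Subgroup.center ↥K))
  exact Group.IsPerfect.not_isSolvable Q hsol

/-- `p = 2`, orbit of length two, with a normalizing element. -/
theorem Ctx.false_of_pair [Finite V] [Finite G] [hp : Fact p.Prime] (hp2 : p = 2)
    (hR : ∀ c ∈ A, Moves K c → R p V K c) {a b : G} (ha : a ∈ A) (hm : Moves K a)
    (hAN : ∀ c ∈ A, ∀ d ∈ A, Moves K c → Moves K d → ¬ Moves K (c * d)) (hb : b ∈ A)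
    (hbN : b ∈ Subgroup.normalizer (K : Set G)) (hb1 : b ≠ 1)
    (hfix : ∀ c ∈ A, ∀ w ∈ rng (V := V) c, b • w = w) : False := by
  classical
  subst hp2
  obtain ⟨⟨x, hxK⟩, hxc, m, hmo, hxm, hbx⟩ := exists_inverted h.qs hbN (h.exp b hb)
    (fun hc => hb1 (h.centralizing_eq_one hb hc))
  have hxm' : x ^ m = 1 := congrArg Subtype.val hxm
  have hfpf : ∀ {w : V}, x • w = w → w = 0 := fun hw =>
    h.fpf hR ha hm hxK hxc (Nat.coprime_two_right.2 hmo) hxm' hw
  have hb2 : b * b = 1 := by rw [← pow_two]; exact h.exp b hb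
  have htwo : ∀ u : V, u + u = 0 := fun u => by rw [← two_nsmul]; exact h.hp u
  have hneg : ∀ u : V, -u = u := fun u => neg_eq_of_add_eq_zero_left (htwo u)
  -- fixed vectors of `b` lie in `[V, b]`
  have hCb : fixS (V := V) G {b} ≤ rng (V := V) b := by
    intro w hw
    have hbw : b • w = w := hw b rfl
    obtain ⟨n, hn⟩ := hmo
    have hinv : ∀ i : ℕ, b • x ^ i • w = (x ^ i)⁻¹ • w := fun i => by
      have h1 : cj b (x ^ i) = (x ^ i)⁻¹ := by rw [cj_pow, hbx, inv_pow]
      rw [← h1, cj_def, mul_smul, mul_smul, show b⁻¹ • w = w by rw [inv_smul_eq_iff, hbw]]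
    set s : V := ∑ i ∈ Finset.range n, x ^ (i + 1) • w
    have hS : ∑ i ∈ Finset.range m, x ^ i • w = 0 := by
      apply hfpf
      rw [Finset.smul_sum]
      have e1 : ∑ i ∈ Finset.range m, x • x ^ i • w = ∑ i ∈ Finset.range m, x ^ (i + 1) • w :=
        Finset.sum_congr rfl fun i _ => by rw [smul_smul, ← pow_succ']
      rw [e1]
      have e2 := Finset.sum_range_succ' (fun i => x ^ i • w) m
      rw [Finset.sum_range_succ, hxm', one_smul] at e2
      simpa using e2.symm
    have hbs : b • s = ∑ i ∈ Finset.range n, x ^ (n + i + 1) • w := by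
      rw [Finset.smul_sum, ← Finset.sum_range_reflect]
      refine Finset.sum_congr rfl fun i hi => ?_
      have hi' := Finset.mem_range.1 hi
      rw [hinv]
      congr 1
      rw [inv_eq_iff_mul_eq_one, ← pow_add, show n - 1 - i + 1 + (n + i + 1) = m by omega, hxm']
    refine mem_rng.2 ⟨s, ?_⟩
    have hsplit : w + s + b • s = 0 := by
      rw [← hS, hn, Finset.sum_range_succ' _ (2 * n), two_mul, Finset.sum_range_add, pow_zero, one_smul, hbs]
      abel
    calc b • s - s = b • s + s := by rw [sub_eq_add_neg, hneg]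
      _ = -w := eq_neg_of_add_eq_zero_left (by rw [← hsplit]; abel)
      _ = w := hneg w
  have hbA : rng (V := V) b ≤ fixS G (A : Set G) := by
    rintro _ hw c hc
    obtain ⟨v, rfl⟩ := mem_rng.1 hw
    have h1 := hfix c hc _ (mem_rng.2 ⟨v, rfl⟩)
    rw [smul_sub, smul_smul, h.comm b hb c hc, mul_smul] at h1
    rw [smul_sub, sub_eq_sub_iff_sub_eq_sub]
    exact h1
  have hAb : fixS (V := V) G (A : Set G) ≤ fixS G {b} := fixS_anti (by simpa using hb)
  have hrb : rng (V := V) b = fixS G {b} := le_antisymm (hbA.trans hAb) hCb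
  have hCA : fixS (V := V) G (A : Set G) = fixS G {b} := le_antisymm hAb (hrb.symm.le.trans hbA)
  set P := Nat.card ↥(fixS (V := V) G {b})
  have hV : Nat.card V = P * P := by rw [← card_rng b, hrb]
  have hPA : P ≤ Nat.card A := Nat.le_of_mul_le_mul_right
    (by have := h.offender; rwa [hV, hCA] at this) (Nat.card_pos (α := ↥(fixS (V := V) G {b})))
  set N := A ⊓ Subgroup.normalizer (K : Set G)
  have hA2 : Nat.card A ≤ 2 * Nat.card N := by
    let f : ↥A → Bool × ↥N := fun c =>
      if hc : Moves K c.1 then (true, ⟨a * c.1, A.mul_mem ha c.2, not_not.1 (hAN a ha c.1 c.2 hm hc)⟩)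
      else (false, ⟨c.1, c.2, not_not.1 hc⟩)
    have hf : Function.Injective f := by
      intro c d e
      simp only [f] at e
      split_ifs at e with h1 h2 h2
      all_goals first
        | exact Subtype.ext (mul_left_cancel (congrArg (fun t => (t.2 : G)) e))
        | exact Subtype.ext (congrArg (fun t => (t.2 : G)) e)
        | exact absurd (congrArg Prod.fst e) (by simp)
    have := Nat.card_le_card_of_injective f hf
    simpa [Nat.card_prod] using this
  have hm' : ∀ n : ↥N, Moves K (a * n.1) := fun n hn =>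
    hm (by simpa using Subgroup.mul_mem _ hn (Subgroup.inv_mem _ n.2.2))
  -- the subspaces `[V, a n]` meet trivially
  have hdisj : ∀ n n' : ↥N, n ≠ n' → ∀ w, w ∈ rng (V := V) (a * n.1) → w ∈ rng (V := V) (a * n'.1) → w = 0 := by
    intro n n' hne w hw hw'
    set c := a * n.1
    have hcA : c ∈ A := A.mul_mem ha n.2.1
    set d := n.1⁻¹ * n'.1
    have hdN : d ∈ Subgroup.normalizer (K : Set G) := Subgroup.mul_mem _ (Subgroup.inv_mem _ n.2.2) n'.2.2
    have hcd : a * n'.1 = c * d := by simp only [c, d]; group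
    let σ : ↥K →* ↥K := MonoidHom.mk' (fun y => ⟨cj d y.1, cj_mem hdN y.2⟩)
      fun u v => Subtype.ext (map_mul (MulAut.conj d) u.1 v.1)
    let f : ↥K →* G := (MulAut.conj c).toMonoidHom.comp K.subtype
    set D := Subgroup.closure (Set.range fun y : ↥K => y⁻¹ * σ y)
    haveI : D.Normal := by
      refine Subgroup.normalizer_eq_top_iff.1 (eq_top_iff.2 fun k _ => ?_)
      have key : ∀ k y : ↥K, k⁻¹ * (y⁻¹ * σ y) * k ∈ D := fun k y => by
        have e : k⁻¹ * (y⁻¹ * σ y) * k = ((y * k)⁻¹ * σ (y * k)) * (k⁻¹ * σ k)⁻¹ := by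
          rw [map_mul]; group
        rw [e]
        exact D.mul_mem (Subgroup.subset_closure ⟨_, rfl⟩) (D.inv_mem (Subgroup.subset_closure ⟨_, rfl⟩))
      have hconj : ∀ k : ↥K, ∀ u ∈ D, k * u * k⁻¹ ∈ D := by
        intro k u hu
        induction hu using Subgroup.closure_induction with
        | mem u hu => obtain ⟨y, rfl⟩ := hu; simpa using key k⁻¹ y
        | one => simp
        | mul u v _ _ hu hv => rw [show k * (u * v) * k⁻¹ = (k * u * k⁻¹) * (k * v * k⁻¹) by group]; exact D.mul_mem hu hv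
        | inv u _ hu => rw [show k * u⁻¹ * k⁻¹ = (k * u * k⁻¹)⁻¹ by group]; exact D.inv_mem hu
      refine Subgroup.mem_normalizer_iff.2 fun u => ⟨fun hu => hconj k u hu, fun hu => ?_⟩
      have := hconj k⁻¹ _ hu
      simpa [mul_assoc] using this
    have hS : D ≤ kerOn f ({w} : Set V) := by
      refine (Subgroup.closure_le _).2 ?_
      rintro _ ⟨y, rfl⟩ v rfl
      show cj c (y.1⁻¹ * cj d y.1) • v = v
      have h1 := hR c hcA (hm' n) y.1 y.2 v hw
      have h2 := hR (a * n'.1) (A.mul_mem ha n'.2.1) (hm' n') y.1 y.2 v hw'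
      rw [orb_two, mul_smul] at h1 h2
      rw [hcd] at h2
      rw [cj_mul, cj_inv, cj_cj, mul_smul, inv_smul_eq_iff]
      exact smul_left_cancel _ (h2.trans h1.symm)
    have htop : D = ⊤ := by
      rcases Components.IsQuasisimple.normal_eq_top_or_le_center h.qs D with hD | hD
      · exact hD
      · exfalso
        have hd1 : d = 1 := h.centralizing_eq_one (A.mul_mem (A.inv_mem n.2.1) n'.2.1) fun u hu =>
          congrArg Subtype.val (qs_aut_eq h.qs σ (fun y => hD (Subgroup.subset_closure ⟨y, rfl⟩)) ⟨u, hu⟩)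
        exact hne (Subtype.ext (inv_mul_eq_one.1 hd1))
    have hcK : ∀ y ∈ K, cj c y • w = w := fun y hy =>
      hS (show (⟨y, hy⟩ : ↥K) ∈ D by rw [htop]; exact Subgroup.mem_top _) w rfl
    have hK : ∀ y ∈ K, y • w = w := fun y hy => by
      have h1 := hR c hcA (hm' n) y hy w hw
      rwa [orb_two, mul_smul, hcK y hy] at h1
    refine h.eq_zero fun e he y hy => ?_
    by_cases hme : Moves K e
    · have h1 := hcK _ (cj_mem (not_not.1 (hAN c hcA e he (hm' n) hme)) hy)
      rw [cj_cj, ← mul_assoc, ← pow_two, h.exp c hcA, one_mul] at h1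
      exact h1
    · exact hK _ (cj_mem (not_not.1 hme) hy)
  -- count
  have hsub : ∀ n : ↥N, rng (V := V) (a * n.1) ≤ fixS G {b} := fun n u hu g hg => by
    rw [hg]; exact hfix _ (A.mul_mem ha n.2.1) u hu
  have hcard : ∀ n : ↥N, 2 ≤ Nat.card {u : ↥(rng (V := V) (a * n.1)) // u ≠ 0} := fun n => by
    haveI := Fintype.ofFinite ↥(rng (V := V) (a * n.1))
    have h3 : ¬ Nat.card ↥(rng (V := V) (a * n.1)) ≤ 2 := fun hle =>
      h.false_of_transvection rfl (A.mul_mem ha n.2.1) (hm' n) hle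
    rw [Nat.card_eq_fintype_card] at h3 ⊢
    rw [Fintype.card_subtype_compl, Fintype.card_subtype_eq]
    omega
  let F : (Σ n : ↥N, {u : ↥(rng (V := V) (a * n.1)) // u ≠ 0}) → {u : ↥(fixS (V := V) G {b}) // u ≠ 0} :=
    fun t => ⟨⟨t.2.1.1, hsub t.1 t.2.1.2⟩, fun e => t.2.2 (Subtype.ext ((congrArg Subtype.val e).trans rfl))⟩
  have hF : Function.Injective F := by
    rintro ⟨n, u⟩ ⟨n', u'⟩ e
    have e' : u.1.1 = u'.1.1 := congrArg (fun t => t.1.1) e
    rcases eq_or_ne n n' with rfl | hne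
    · exact congrArg _ (Subtype.ext (Subtype.ext e'))
    · exact absurd (Subtype.ext (hdisj n n' hne _ u.1.2 (e' ▸ u'.1.2))) u.2
  have hle := Nat.card_le_card_of_injective F hF
  haveI := Fintype.ofFinite ↥N
  haveI := Fintype.ofFinite ↥(fixS (V := V) G {b})
  rw [Nat.card_sigma] at hle
  have h2 : 2 * Nat.card N ≤ ∑ n : ↥N, Nat.card {u : ↥(rng (V := V) (a * n.1)) // u ≠ 0} := by
    refine le_trans ?_ (Finset.sum_le_sum fun n _ => hcard n)
    simp [Nat.card_eq_fintype_card, mul_comm]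
  have h3 : Nat.card {u : ↥(fixS (V := V) G {b}) // u ≠ 0} = P - 1 := by
    rw [Nat.card_eq_fintype_card, Fintype.card_subtype_compl, Fintype.card_subtype_eq, ← Nat.card_eq_fintype_card]
  rw [h3] at hle
  have : 1 ≤ P := Nat.card_pos
  omega

/-- The irreducible case of the P(G,V) theorem. -/
theorem Ctx.main [Finite V] [Finite G] [hp : Fact p.Prime]
    (hB : (∀ a ∈ A, ∀ b ∈ A, ∀ w ∈ rng (V := V) a, b • w = w) ∨
      ∃ b ∈ A, b ≠ 1 ∧ b ∈ Subgroup.normalizer (K : Set G) ∧ ∀ a ∈ A, ∀ w ∈ rng (V := V) a, b • w = w) :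
    A ≤ Subgroup.normalizer (K : Set G) := by
  intro a ha
  by_contra hm
  by_cases hN : ∃ b ∈ A, b ≠ 1 ∧ b ∈ Subgroup.normalizer (K : Set G) ∧
      ∀ a ∈ A, ∀ w ∈ rng (V := V) a, b • w = w
  · obtain ⟨b, hb, hb1, hbN, hfix⟩ := hN
    have hR : ∀ c ∈ A, Moves K c → R p V K c := fun c hc hmc =>
      h.r_of_normalizing hc hmc hb hbN hb1 (hfix c hc)
    by_cases hp2 : p = 2
    · by_cases h4 : ∃ c ∈ A, ∃ d ∈ A, Moves K c ∧ Moves K d ∧ Moves K (c * d)
      · obtain ⟨c, hc, d, hd, h1, h2, h3⟩ := h4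
        exact h.false_of_four hp2 hR hc hd h1 h2 h3
      · push_neg at h4
        exact h.false_of_pair hp2 hR ha hm h4 hb hbN hb1 hfix
    · exact h.false_of_odd hp2 hR ha hm
  · rcases hB with hq | hB
    swap
    · exact hN hB
    have hN1 : ∀ c ∈ A, c ∈ Subgroup.normalizer (K : Set G) → c = 1 := fun c hc hcn => by
      by_contra hc1
      exact hN ⟨c, hc, hc1, hcn, fun a ha w hw => hq a ha c hc w hw⟩
    have hR : ∀ c ∈ A, Moves K c → R p V K c := fun c hc hmc => h.r_of_regular hN1 hq hc hmc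
    by_cases hp2 : p = 2
    · by_cases h4 : ∃ c ∈ A, ∃ d ∈ A, Moves K c ∧ Moves K d ∧ Moves K (c * d)
      · obtain ⟨c, hc, d, hd, h1, h2, h3⟩ := h4
        exact h.false_of_four hp2 hR hc hd h1 h2 h3
      · push_neg at h4
        subst hp2
        refine h.false_of_transvection rfl ha hm ?_
        have hA2 : Nat.card A ≤ 2 := by
          classical
          have hf : ∀ c d : ↥A, (c.1 = 1 ↔ d.1 = 1) → c = d := by
            intro c d e
            apply Subtype.ext
            by_cases hc1 : c.1 = 1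
            · rw [hc1, e.1 hc1]
            · have hd1 : d.1 ≠ 1 := fun hh => hc1 (e.2 hh)
              have h1 := hN1 _ (A.mul_mem c.2 d.2) (not_not.1
                (h4 c.1 c.2 d.1 d.2 (fun hh => hc1 (hN1 _ c.2 hh)) (fun hh => hd1 (hN1 _ d.2 hh))))
              rw [eq_inv_of_mul_eq_one_left h1, inv_eq_iff_mul_eq_one, ← pow_two]
              exact h.exp _ d.2
          have := Nat.card_le_card_of_injective (fun c : ↥A => decide (c.1 = 1))
            (fun c d e => hf c d (by simpa using e))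
          simpa using this
        have h1 := (card_rng (V := V) a).le.trans h.offender
        have h2 : Nat.card ↥(fixS (V := V) G (A : Set G)) ≤ Nat.card ↥(fixS (V := V) G ({a} : Set G)) :=
          AddSubgroup.card_le_of_le (fixS_anti (by simpa using ha))
        exact (Nat.le_of_mul_le_mul_right (h1.trans (Nat.mul_le_mul_left _ h2)) Nat.card_pos).trans hA2
    · exact h.false_of_odd hp2 hR ha hm

end Cfsg.Agent.PGV
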