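/-
Timmesfeld replacement for a group acting on an abelian group, and best offenders on submodules.
-/
import Cfsg.Agent.Lib.PGV.Tools
import Cfsg.Agent.Lib.PLocal.Basic

namespace Cfsg.Agent.PGV

variable {G V : Type*} [Group G] [AddCommGroup V] [DistribMulAction G V]

variable (G) in
/-- The elements fixing a set of vectors. -/
def fixG (W : Set V) : Subgroup G where
  carrier := {g | ∀ w ∈ W, g • w = w}
  one_mem' := fun w _ => one_smul G w
  mul_mem' := fun {x y} hx hy w hw => by rw [mul_smul, hy w hw, hx w hw]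
  inv_mem' := fun {x} hx w hw => by rw [inv_smul_eq_iff, hx w hw]

/-- Best offender: `|B| |C(B)| ≤ |A| |C(A)|` for all `B ≤ A`. -/
def Best (V : Type*) [AddCommGroup V] [DistribMulAction G V] (A : Subgroup G) : Prop :=
  ∀ B : Subgroup G, B ≤ A → Nat.card B * Nat.card ↥(fixS (V := V) G (B : Set G)) ≤
    Nat.card A * Nat.card ↥(fixS (V := V) G (A : Set G))

/-- `[s, A]`. -/
def cS (s : Set V) (A : Subgroup G) : AddSubgroup V :=
  AddSubgroup.closure {w | ∃ u ∈ s, ∃ a ∈ A, a • u - u = w}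

theorem cS_union (s t : Set V) (A : Subgroup G) : cS (s ∪ t) A = cS s A ⊔ cS t A := by
  rw [cS, cS, cS, ← AddSubgroup.closure_union]
  congr 1
  ext w
  simp only [Set.mem_ofPred_eq, Set.mem_union]
  constructor
  · rintro ⟨u, hu | hu, hh⟩
    · exact Or.inl ⟨u, hu, hh⟩
    · exact Or.inr ⟨u, hu, hh⟩
  · rintro (⟨u, hu, hh⟩ | ⟨u, hu, hh⟩)
    · exact ⟨u, Or.inl hu, hh⟩
    · exact ⟨u, Or.inr hu, hh⟩

theorem cS_mem {A : Subgroup G} {s : Set V} {u : V} (hu : u ∈ s) {a : G} (ha : a ∈ A) :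
    a • u - u ∈ cS s A :=
  AddSubgroup.subset_closure ⟨u, hu, a, ha, rfl⟩

theorem card_sup_mul_card_inf [Finite V] (H K : AddSubgroup V) :
    Nat.card ↥(H ⊔ K) * Nat.card ↥(H ⊓ K) = Nat.card H * Nat.card K := by
  let f : ↥H × ↥K →+ V := H.subtype.coprod K.subtype
  have h1 := f.ker.card_eq_card_quotient_mul_card_addSubgroup
  have hr : f.range = H ⊔ K := by
    refine le_antisymm ?_ (sup_le ?_ ?_)
    · rintro _ ⟨⟨u, v⟩, rfl⟩; exact AddSubgroup.add_mem_sup u.2 v.2
    · exact fun u hu => ⟨(⟨u, hu⟩, 0), by simp [f]⟩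
    · exact fun u hu => ⟨(0, ⟨u, hu⟩), by simp [f]⟩
  have hk : Nat.card ↥f.ker = Nat.card ↥(H ⊓ K) := by
    refine Nat.card_congr
      { toFun := fun u => ⟨u.1.1.1, u.1.1.2, ?_⟩
        invFun := fun u => ⟨(⟨u.1, u.2.1⟩, -⟨u.1, u.2.2⟩), by simp [f, AddMonoidHom.mem_ker]⟩
        left_inv := fun u => ?_
        right_inv := fun u => rfl }
    · have h0 : u.1.1.1 + u.1.2.1 = 0 := u.2
      rw [eq_neg_of_add_eq_zero_left h0]; exact K.neg_mem u.1.2.2
    · have h0 : u.1.1.1 + u.1.2.1 = 0 := u.2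
      refine Subtype.ext (Prod.ext rfl (Subtype.ext ?_))
      show -(u.1.1.1) = u.1.2.1
      exact neg_eq_of_add_eq_zero_right h0
  rw [Nat.card_congr (QuotientAddGroup.quotientKerEquivRange f).toEquiv, hr, hk, Nat.card_prod] at h1
  exact h1.symm

variable {A : Subgroup G}

theorem card_le_single [Finite G] [Finite V] (hc : ∀ a ∈ A, ∀ b ∈ A, a * b = b * a) (u : V) :
    Nat.card A * Nat.card ↥(fixS (V := V) G (A : Set G)) ≤
      Nat.card ↥(A ⊓ fixG G (cS ({u} : Set V) A : Set V)) *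
        Nat.card ↥(cS ({u} : Set V) A ⊔ fixS G (A : Set G)) := by
  classical
  set C := fixS (V := V) G (A : Set G)
  set W := cS ({u} : Set V) A
  set B := A ⊓ fixG G (W : Set V)
  let f : (↥A ⧸ B.subgroupOf A) × ↥C → ↥(W ⊔ C) := fun qc =>
    ⟨(qc.1.out.1 • u - u) + qc.2.1, AddSubgroup.add_mem_sup (cS_mem (s := ({u} : Set V)) (Set.mem_singleton u) qc.1.out.2) qc.2.2⟩
  have key : ∀ a ∈ A, ∀ a' ∈ A, (a • u - u) - (a' • u - u) ∈ C → a⁻¹ * a' ∈ fixG G (W : Set V) := by
    intro a ha a' ha' hd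
    rw [sub_sub_sub_cancel_right] at hd
    have hgen : ∀ x ∈ A, (a⁻¹ * a') • (x • u - u) = x • u - u := by
      intro x hx
      rw [mul_smul, inv_smul_eq_iff]
      have h1 : x • (a • u - a' • u) = a • u - a' • u := hd x hx
      rw [smul_sub, smul_smul, smul_smul, hc x hx a ha, hc x hx a' ha', mul_smul, mul_smul] at h1
      rw [smul_sub, smul_sub]
      rw [← sub_eq_zero] at h1 ⊢
      rw [show a' • x • u - a' • u - (a • x • u - a • u) =
        -(a • x • u - a' • x • u - (a • u - a' • u)) by abel, h1, neg_zero]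
    intro w hw
    induction hw using AddSubgroup.closure_induction with
    | mem w hw => obtain ⟨v, rfl, x, hx, rfl⟩ := hw; exact hgen x hx
    | zero => exact smul_zero _
    | add v w _ _ hv hw => rw [smul_add, hv, hw]
    | neg v _ hv => rw [smul_neg, hv]
  have hf : Function.Injective f := by
    rintro ⟨q, c⟩ ⟨q', c'⟩ e
    have e' : (q.out.1 • u - u) + c.1 = (q'.out.1 • u - u) + c'.1 := congrArg Subtype.val e
    have hq : q = q' := by
      rw [← Quotient.out_eq q, ← Quotient.out_eq q']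
      apply QuotientGroup.eq.2
      rw [Subgroup.mem_subgroupOf]
      refine ⟨A.mul_mem (A.inv_mem q.out.2) q'.out.2, key _ q.out.2 _ q'.out.2 ?_⟩
      rw [show (q.out.1 • u - u) - (q'.out.1 • u - u) = c'.1 - c.1 by
        rw [sub_eq_sub_iff_add_eq_add, e']; abel]
      exact C.sub_mem c'.2 c.2
    subst hq
    exact Prod.ext rfl (Subtype.ext (add_left_cancel e'))
  have h1 := Nat.card_le_card_of_injective f hf
  rw [Nat.card_prod] at h1
  have h2 : Nat.card A = Nat.card (↥A ⧸ B.subgroupOf A) * Nat.card B := by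
    rw [Subgroup.card_eq_card_quotient_mul_card_subgroup (B.subgroupOf A)]
    congr 1
    exact Nat.card_congr (Subgroup.subgroupOfEquivOfLe (inf_le_left : B ≤ A)).toEquiv
  rw [h2, mul_right_comm, mul_comm (Nat.card B)]
  exact Nat.mul_le_mul_right _ h1

theorem replacement_core [Finite G] [Finite V] (hc : ∀ a ∈ A, ∀ b ∈ A, a * b = b * a) (hA : Best V A)
    (s : Finset V) :
    Nat.card ↥(A ⊓ fixG G (cS (s : Set V) A : Set V)) *
        Nat.card ↥(fixS (V := V) G ((A ⊓ fixG G (cS (s : Set V) A : Set V) : Subgroup G) : Set G))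
      = Nat.card A * Nat.card ↥(fixS (V := V) G (A : Set G)) ∧
    fixS (V := V) G ((A ⊓ fixG G (cS (s : Set V) A : Set V) : Subgroup G) : Set G) =
      cS (s : Set V) A ⊔ fixS G (A : Set G) := by
  classical
  set m := Nat.card A * Nat.card ↥(fixS (V := V) G (A : Set G))
  have squeeze : ∀ t : Set V,
      m ≤ Nat.card ↥(A ⊓ fixG G (cS t A : Set V)) * Nat.card ↥(cS t A ⊔ fixS G (A : Set G)) →
      Nat.card ↥(A ⊓ fixG G (cS t A : Set V)) *
        Nat.card ↥(fixS (V := V) G ((A ⊓ fixG G (cS t A : Set V) : Subgroup G) : Set G)) = m ∧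
      fixS (V := V) G ((A ⊓ fixG G (cS t A : Set V) : Subgroup G) : Set G) = cS t A ⊔ fixS G (A : Set G) := by
    intro t hle
    set B := A ⊓ fixG G (cS t A : Set V)
    have h1 : cS t A ⊔ fixS G (A : Set G) ≤ fixS (V := V) G (B : Set G) :=
      sup_le (fun w hw g hg => hg.2 w hw) (fixS_anti fun g hg => hg.1)
    have h2 := hA B inf_le_left
    have h3 := Nat.mul_le_mul_left (Nat.card B) (AddSubgroup.card_le_of_le h1)
    exact ⟨le_antisymm h2 (hle.trans h3), (AddSubgroup.eq_of_le_of_card_ge h1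
      (Nat.le_of_mul_le_mul_left (h2.trans hle) Nat.card_pos)).symm⟩
  induction s using Finset.induction_on with
  | empty =>
    refine squeeze _ ?_
    have h0 : cS ((∅ : Finset V) : Set V) A = ⊥ := by simp [cS]
    rw [h0, bot_sup_eq]
    refine Nat.mul_le_mul_right _ (Subgroup.card_le_of_le (le_inf le_rfl fun g _ w hw => ?_))
    rw [AddSubgroup.mem_bot.1 hw, smul_zero]
  | @insert u s hu ih =>
    refine squeeze _ ?_
    rw [Finset.coe_insert, ← Set.singleton_union, cS_union]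
    obtain ⟨hm1, hC1⟩ := squeeze {u} (card_le_single hc u)
    obtain ⟨hm2, hC2⟩ := ih
    set W1 := cS ({u} : Set V) A
    set W2 := cS (s : Set V) A
    set C := fixS (V := V) G (A : Set G)
    set B1 := A ⊓ fixG G (W1 : Set V)
    set B2 := A ⊓ fixG G (W2 : Set V)
    have hB : B1 ⊓ B2 ≤ A ⊓ fixG G ((W1 ⊔ W2 : AddSubgroup V) : Set V) := by
      refine le_inf (inf_le_left.trans inf_le_left) fun g hg w hw => ?_
      obtain ⟨v1, hv1, v2, hv2, rfl⟩ := AddSubgroup.mem_sup.1 hw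
      rw [smul_add, hg.1.2 v1 hv1, hg.2.2 v2 hv2]
    have h3 : fixS (V := V) G ((B1 ⊔ B2 : Subgroup G) : Set G) =
        fixS G (B1 : Set G) ⊓ fixS G (B2 : Set G) := by
      refine le_antisymm (le_inf (fixS_anti (SetLike.coe_subset_coe.2 le_sup_left)) (fixS_anti (SetLike.coe_subset_coe.2 le_sup_right))) ?_
      rintro v ⟨hv1, hv2⟩ g hg
      have : B1 ⊔ B2 ≤ MulAction.stabilizer G v := sup_le (fun x hx => hv1 x hx) (fun x hx => hv2 x hx)
      exact this hg
    have h4 := hA (B1 ⊔ B2) (sup_le inf_le_left inf_le_left)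
    have h5 := card_sup_mul_card_inf (fixS (V := V) G (B1 : Set G)) (fixS G (B2 : Set G))
    have h6 := PLocal.card_mul_card_le B1 B2
    rw [h3] at h4
    have hW : W1 ⊔ W2 ⊔ C = (W1 ⊔ C) ⊔ (W2 ⊔ C) := sup_sup_distrib_right W1 W2 C
    rw [hW, ← hC1, ← hC2]
    refine le_trans ?_ (Nat.mul_le_mul_right _ (Subgroup.card_le_of_le hB))
    refine Nat.le_of_mul_le_mul_left (a := m) ?_
      (Nat.mul_pos (Nat.card_pos (α := A)) (Nat.card_pos (α := ↥(fixS (V := V) G (A : Set G)))))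
    calc m * m = (Nat.card B1 * Nat.card B2) *
          (Nat.card ↥(fixS (V := V) G (B1 : Set G)) * Nat.card ↥(fixS (V := V) G (B2 : Set G))) := by
          conv_lhs => arg 1; rw [← hm1]
          conv_lhs => arg 2; rw [← hm2]
          ring
      _ ≤ (Nat.card ↥(B1 ⊔ B2) * Nat.card ↥(B1 ⊓ B2)) *
            (Nat.card ↥(fixS (V := V) G (B1 : Set G) ⊔ fixS G (B2 : Set G)) *
              Nat.card ↥(fixS (V := V) G (B1 : Set G) ⊓ fixS G (B2 : Set G))) := by
          rw [h5]; exact Nat.mul_le_mul_right _ h6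
      _ = (Nat.card ↥(B1 ⊔ B2) * Nat.card ↥(fixS (V := V) G (B1 : Set G) ⊓ fixS G (B2 : Set G))) *
            (Nat.card ↥(B1 ⊓ B2) * Nat.card ↥(fixS (V := V) G (B1 : Set G) ⊔ fixS G (B2 : Set G))) := by ring
      _ ≤ m * _ := Nat.mul_le_mul_right _ h4

/-- Timmesfeld replacement: `C_A([V, A])` is a best offender, nontrivial when `A` acts nontrivially. -/
theorem timmesfeld [Finite G] [Finite V] (hc : ∀ a ∈ A, ∀ b ∈ A, a * b = b * a) (hA : Best V A) :
    Best V (A ⊓ fixG G (cS (Set.univ : Set V) A : Set V)) ∧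
    fixS (V := V) G ((A ⊓ fixG G (cS (Set.univ : Set V) A : Set V) : Subgroup G) : Set G) =
      cS (Set.univ : Set V) A ⊔ fixS G (A : Set G) := by
  classical
  haveI := Fintype.ofFinite V
  obtain ⟨h1, h2⟩ := replacement_core hc hA (Finset.univ : Finset V)
  simp only [Finset.coe_univ] at h1 h2
  refine ⟨fun B hB => ?_, h2⟩
  rw [h1]; exact hA B (hB.trans inf_le_left)

/-- If `V = [V, A] + C(A)` for a `p`-group `A` on a group of exponent `p`, the action is trivial. -/
theorem trivial_of_sup_eq_top [Finite G] [Finite V] {p : ℕ} [hp : Fact p.Prime] (hV : ∀ v : V, p • v = 0)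
    (hc : ∀ a ∈ A, ∀ b ∈ A, a * b = b * a) (hexp : ∀ a ∈ A, a ^ p = 1)
    (h : cS (Set.univ : Set V) A ⊔ fixS G (A : Set G) = ⊤) : ∀ a ∈ A, ∀ v : V, a • v = v := by
  set I := cS (Set.univ : Set V) A
  have hI : ∀ a ∈ A, ∀ w ∈ I, a • w ∈ I := by
    intro a ha w hw
    induction hw using AddSubgroup.closure_induction with
    | mem w hw =>
      obtain ⟨u, -, x, hx, rfl⟩ := hw
      rw [smul_sub, smul_smul, hc a ha x hx, mul_smul]
      exact cS_mem (Set.mem_univ _) hx
    | zero => rw [smul_zero]; exact I.zero_mem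
    | add u v _ _ hu hv => rw [smul_add]; exact I.add_mem hu hv
    | neg u _ hu => rw [smul_neg]; exact I.neg_mem hu
  -- for each `a`: `(a-1)^(k+1) V = (a-1)^k V`, so all vanish
  intro a ha
  by_contra! hne
  -- a maximal hyperplane argument: `I` is a proper subgroup
  let act : ↥A → ↥I → ↥I := fun x w => ⟨x.1 • w.1, hI x.1 x.2 w.1 w.2⟩
  letI : DistribMulAction ↥A ↥I :=
    { smul := act
      one_smul := fun w => Subtype.ext (one_smul G w.1)
      mul_smul := fun x y w => Subtype.ext (mul_smul x.1 y.1 w.1)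
      smul_zero := fun x => Subtype.ext (smul_zero x.1)
      smul_add := fun x v w => Subtype.ext (smul_add x.1 v.1 w.1) }
  letI : MulAction ↥A (↥I →+ ZMod p) :=
    { smul := fun x φ => φ.comp (DistribSMul.toAddMonoidHom ↥I x⁻¹)
      one_smul := fun φ => AddMonoidHom.ext fun w => by
        show φ ((1 : ↥A)⁻¹ • w) = φ w
        rw [inv_one, one_smul]
      mul_smul := fun x y φ => AddMonoidHom.ext fun w => by
        show φ ((x * y)⁻¹ • w) = φ (y⁻¹ • x⁻¹ • w)
        rw [mul_inv_rev, mul_smul] }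
  haveI : Finite (↥I →+ ZMod p) := Finite.of_injective (fun φ => (φ : ↥I → ZMod p)) DFunLike.coe_injective
  have hpg : IsPGroup p ↥A := fun x => ⟨1, Subtype.ext (by
    rw [pow_one, SubmonoidClass.coe_pow, OneMemClass.coe_one]; exact hexp x.1 x.2)⟩
  obtain ⟨v, hv⟩ := hne
  have hw0 : (⟨a • v - v, cS_mem (Set.mem_univ v) ha⟩ : ↥I) ≠ 0 := fun e =>
    hv (sub_eq_zero.1 (congrArg Subtype.val e))
  have hexI : ∀ w : ↥I, p • w = 0 := fun w => Subtype.ext (by
    rw [AddSubgroup.coe_nsmul]; exact hV w.1)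
  letI : Module (ZMod p) ↥I := AddCommGroup.zmodModule hexI
  have hdv : p ∣ Nat.card (↥I →+ ZMod p) := by
    obtain ⟨φ, hφ⟩ : ∃ φ : ↥I →+ ZMod p, φ ≠ 0 := by
      by_contra! hall
      exact hw0 ((Module.forall_dual_apply_eq_zero_iff (ZMod p) _).1 fun ψ =>
        DFunLike.congr_fun (hall ψ.toAddMonoidHom) (⟨a • v - v, cS_mem (Set.mem_univ v) ha⟩ : ↥I))
    refine (dvd_of_eq (addOrderOf_eq_prime (show p • φ = 0 by ext w; simp) hφ).symm).trans ?_
    exact addOrderOf_dvd_natCard _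
  obtain ⟨φ, hφ, hφ0⟩ := hpg.exists_fixed_point_of_prime_dvd_card_of_fixed_point (↥I →+ ZMod p) hdv
    (a := 0) (fun x => AddMonoidHom.ext fun _ => rfl)
  have hinvφ : ∀ (x : ↥A) (w : ↥I), φ (x • w) = φ w := fun x w => by
    have h1 := DFunLike.congr_fun (hφ x⁻¹) w
    change φ (x⁻¹⁻¹ • w) = φ w at h1
    rwa [inv_inv] at h1
  refine hφ0 (AddMonoidHom.ext fun w => ?_).symm
  obtain ⟨w, hw⟩ := w
  induction hw using AddSubgroup.closure_induction with
  | mem w hw =>
    obtain ⟨u, -, x, hx, rfl⟩ := hw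
    have hu : u ∈ I ⊔ fixS G (A : Set G) := h ▸ AddSubgroup.mem_top u
    obtain ⟨i, hi, c, hc', rfl⟩ := AddSubgroup.mem_sup.1 hu
    have e : (⟨x • (i + c) - (i + c), AddSubgroup.subset_closure ⟨i + c, Set.mem_univ _, x, hx, rfl⟩⟩ : ↥I) =
        (⟨x, hx⟩ : ↥A) • (⟨i, hi⟩ : ↥I) - ⟨i, hi⟩ := Subtype.ext (by
      show x • (i + c) - (i + c) = x • i - i
      rw [smul_add, hc' x hx]; abel)
    rw [e, map_sub, hinvφ, sub_self]
    rfl
  | zero => exact map_zero φ
  | add u v hu hv ihu ihv =>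
    show φ (⟨u, hu⟩ + ⟨v, hv⟩) = 0
    rw [map_add, ihu, ihv]; simp
  | neg u hu ihu =>
    show φ (-⟨u, hu⟩) = 0
    rw [map_neg, ihu]; simp

/-- Timmesfeld: the replacement of a faithful nontrivial best offender is nontrivial. -/
theorem timmesfeld_ne_bot [Finite G] [Finite V] {p : ℕ} [Fact p.Prime] (hV : ∀ v : V, p • v = 0)
    (hc : ∀ a ∈ A, ∀ b ∈ A, a * b = b * a) (hexp : ∀ a ∈ A, a ^ p = 1) (hA : Best V A)
    (hnt : ∃ a ∈ A, ∃ v : V, a • v ≠ v) : A ⊓ fixG G (cS (Set.univ : Set V) A : Set V) ≠ ⊥ := by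
  intro hB
  have h2 := (timmesfeld hc hA).2
  rw [hB] at h2
  obtain ⟨a, ha, v, hv⟩ := hnt
  refine hv (trivial_of_sup_eq_top hV hc hexp ?_ a ha v)
  rw [← h2, eq_top_iff]
  intro u _ g hg
  rw [Subgroup.coe_bot, Set.mem_singleton_iff] at hg
  rw [hg, one_smul]

end Cfsg.Agent.PGV
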