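/-
The P(G,V) theorem: a best offender normalizes `K`.
-/
import Cfsg.Agent.Lib.PGV.Two
import Cfsg.Agent.Lib.PGV.Replace

namespace Cfsg.Agent.PGV

universe u v

variable {G : Type*} {V : Type*} [Group G] [AddCommGroup V] [DistribMulAction G V]

theorem card_map_mul [Finite G] {X : Type*} [Group X] (f : G →* X) (B : Subgroup G) :
    Nat.card ↥(B.map f) * Nat.card ↥(B ⊓ f.ker) = Nat.card B := by
  have h1 := (f.comp B.subtype).ker.card_mul_index
  rw [Subgroup.index_ker] at h1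
  have h2 : (f.comp B.subtype).range = B.map f := by
    rw [MonoidHom.range_comp, Subgroup.range_subtype]
  have h3 : Nat.card (f.comp B.subtype).ker = Nat.card ↥(B ⊓ f.ker) := by
    rw [← Subgroup.card_map_of_injective (K := (f.comp B.subtype).ker) B.subtype_injective,
      ← MonoidHom.comap_ker]
    show Nat.card ↥((f.ker.subgroupOf B).map B.subtype) = _
    rw [Subgroup.subgroupOf_map_subtype, inf_comm]
  rw [h2, h3, mul_comm] at h1
  exact h1

/-- The configuration of the theorem. -/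
structure Hyp (p : ℕ) (V : Type*) [AddCommGroup V] [DistribMulAction G V] (K A : Subgroup G) : Prop where
  hp : ∀ v : V, p • v = 0
  qs : Cfsg.IsQuasisimple ↥K
  comm : ∀ a ∈ A, ∀ c ∈ A, a * c = c * a
  exp : ∀ a ∈ A, a ^ p = 1
  swap : ∀ a ∈ A, Moves K a → ∀ x ∈ K, ∀ y ∈ K, Commute x (cj a y)
  faith : ∀ g : G, (∀ v : V, g • v = v) → g = 1

/-- Transport of the configuration along a homomorphism that is nontrivial on `K`. -/
theorem Hyp.image [Finite G] {p : ℕ} {K A : Subgroup G} (h : Hyp p V K A) {S : Subgroup G} (hK : K ≤ S)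
    (hA : A ≤ S) {H : Type*} [Group H] {U : Type*} [AddCommGroup U] [DistribMulAction H U]
    (hpU : ∀ u : U, p • u = 0) (hfaith : ∀ g : H, (∀ u : U, g • u = u) → g = 1) (r : ↥S →* H)
    (hr : ∃ k : ↥S, k.1 ∈ K ∧ r k ≠ 1) :
    Hyp p U ((K.subgroupOf S).map r) ((A.subgroupOf S).map r) ∧
      ∀ a : ↥S, a.1 ∈ A → r a ∈ Subgroup.normalizer (((K.subgroupOf S).map r : Subgroup H) : Set H) →
        a.1 ∈ Subgroup.normalizer (K : Set G) := by
  set K' := (K.subgroupOf S).map r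
  have hfwd : ∀ a : ↥S, a.1 ∈ Subgroup.normalizer (K : Set G) → r a ∈ Subgroup.normalizer (K' : Set H) := by
    intro a ha
    have hmem : ∀ b : ↥S, b.1 ∈ Subgroup.normalizer (K : Set G) → ∀ y ∈ K', r b * y * (r b)⁻¹ ∈ K' := by
      rintro b hb _ ⟨y, hy, rfl⟩
      exact ⟨b * y * b⁻¹, (Subgroup.mem_normalizer_iff.1 hb y.1).1 hy, by simp⟩
    refine Subgroup.mem_normalizer_iff.2 fun y => ⟨hmem a ha y, fun hy => ?_⟩
    have := hmem a⁻¹ (Subgroup.inv_mem _ ha) _ hy
    simpa [mul_assoc] using this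
  let f : ↥K →* H := r.comp (Subgroup.inclusion hK)
  have hK' : K' = f.range := by
    ext y
    constructor
    · rintro ⟨k, hk, rfl⟩; exact ⟨⟨k.1, hk⟩, rfl⟩
    · rintro ⟨k, rfl⟩; exact ⟨Subgroup.inclusion hK k, k.2, rfl⟩
  have hqs : Cfsg.IsQuasisimple ↥K' := by
    obtain ⟨k, hk, hk1⟩ := hr
    haveI : Nontrivial ↥f.range := by
      rw [Subgroup.nontrivial_iff_ne_bot, Ne, MonoidHom.range_eq_bot_iff]
      intro e
      exact hk1 (show f ⟨k.1, hk⟩ = 1 by rw [e]; rfl)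
    rw [hK']
    exact Components.IsQuasisimple.of_surjective h.qs f.rangeRestrict f.rangeRestrict_surjective
  have hswap : ∀ a : ↥S, a.1 ∈ A → Moves K a.1 → ∀ x ∈ K', ∀ y ∈ K', Commute x (cj (r a) y) := by
    rintro a ha hm _ ⟨x, hx, rfl⟩ _ ⟨y, hy, rfl⟩
    have hc : Commute x (a * y * a⁻¹) := Subtype.ext (h.swap a.1 ha hm x.1 hx y.1 hy)
    have := hc.map r
    rwa [map_mul, map_mul, map_inv] at this
  refine ⟨⟨hpU, hqs, ?_, ?_, ?_, hfaith⟩, ?_⟩
  · rintro _ ⟨a, ha, rfl⟩ _ ⟨c, hc, rfl⟩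
    rw [← map_mul, ← map_mul, show a * c = c * a from Subtype.ext (h.comm a.1 ha c.1 hc)]
  · rintro _ ⟨a, ha, rfl⟩
    rw [← map_pow, show a ^ p = 1 from Subtype.ext (h.exp a.1 ha), map_one]
  · rintro _ ⟨a, ha, rfl⟩ hm
    exact hswap a ha fun hn => hm (hfwd a hn)
  · intro a ha hn
    by_contra hm
    refine Components.IsQuasisimple.not_isMulCommutative hqs ⟨⟨fun x y => Subtype.ext ?_⟩⟩
    have hy : (r a)⁻¹ * y.1 * r a ∈ K' := by
      have := (Subgroup.mem_normalizer_iff.1 (Subgroup.inv_mem _ hn) y.1).1 y.2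
      rwa [inv_inv] at this
    have hc := hswap a ha hm x.1 x.2 _ hy
    have e : cj (r a) ((r a)⁻¹ * y.1 * r a) = y.1 := by rw [cj_def]; group
    rw [e] at hc
    exact hc.eq

/-- The homomorphism to the units of the endomorphisms. -/
def toUnitsEnd (G : Type*) (V : Type*) [Group G] [AddCommGroup V] [DistribMulAction G V] :
    G →* (AddMonoid.End V)ˣ :=
  (DistribMulAction.toAddMonoidEnd G V).toHomUnits

theorem toUnitsEnd_smul (g : G) (v : V) : toUnitsEnd G V g • v = g • v := rfl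

theorem units_faith (g : (AddMonoid.End V)ˣ) (hg : ∀ v : V, g • v = v) : g = 1 :=
  Units.ext (AddMonoidHom.ext hg)

instance finite_units_end [Finite V] : Finite (AddMonoid.End V)ˣ :=
  Finite.of_injective (fun f : (AddMonoid.End V)ˣ => ((f : AddMonoid.End V) : V → V))
    (fun f g e => Units.ext (DFunLike.coe_injective e))

/-- The action restricted to an invariant subgroup, as a homomorphism to units. -/
def restrict (S : Subgroup G) (U : AddSubgroup V) (hU : ∀ g ∈ S, ∀ u ∈ U, g • u ∈ U) :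
    ↥S →* (AddMonoid.End ↥U)ˣ :=
  MonoidHom.toHomUnits
    { toFun := fun g =>
        { toFun := fun u => ⟨g.1 • u.1, hU g.1 g.2 u.1 u.2⟩
          map_zero' := Subtype.ext (smul_zero _)
          map_add' := fun u w => Subtype.ext (smul_add _ _ _) }
      map_one' := AddMonoidHom.ext fun u => Subtype.ext (one_smul G u.1)
      map_mul' := fun g k => AddMonoidHom.ext fun u => Subtype.ext (mul_smul g.1 k.1 u.1) }

theorem restrict_smul (S : Subgroup G) (U : AddSubgroup V) (hU : ∀ g ∈ S, ∀ u ∈ U, g • u ∈ U) (g : ↥S)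
    (u : ↥U) : ((restrict S U hU g • u : ↥U) : V) = g.1 • u.1 := rfl

/-- The action on the quotient by an invariant subgroup. -/
def onQuot (S : Subgroup G) (U : AddSubgroup V) (hU : ∀ g ∈ S, ∀ u ∈ U, g • u ∈ U) :
    ↥S →* (AddMonoid.End (V ⧸ U))ˣ :=
  MonoidHom.toHomUnits
    { toFun := fun g => QuotientAddGroup.map U U (DistribSMul.toAddMonoidHom V g.1) (fun u hu => hU g.1 g.2 u hu)
      map_one' := AddMonoidHom.ext fun q => by
        induction q using QuotientAddGroup.induction_on with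
        | H u => exact congrArg (QuotientAddGroup.mk (s := U)) (one_smul G u)
      map_mul' := fun g k => AddMonoidHom.ext fun q => by
        induction q using QuotientAddGroup.induction_on with
        | H u => exact congrArg (QuotientAddGroup.mk (s := U)) (mul_smul g.1 k.1 u) }

theorem onQuot_smul (S : Subgroup G) (U : AddSubgroup V) (hU : ∀ g ∈ S, ∀ u ∈ U, g • u ∈ U) (g : ↥S)
    (u : V) : onQuot S U hU g • (QuotientAddGroup.mk u : V ⧸ U) = QuotientAddGroup.mk (g.1 • u) := rfl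

theorem stab_of_gen {K A : Subgroup G} {U : AddSubgroup V} (hK : ∀ k ∈ K, ∀ w ∈ U, k • w ∈ U)
    (hA : ∀ a ∈ A, ∀ w ∈ U, a • w ∈ U) : ∀ g ∈ K ⊔ A, ∀ w ∈ U, g • w ∈ U := by
  intro g hg
  rw [Subgroup.sup_eq_closure] at hg
  induction hg using Subgroup.closure_induction'' with
  | one => intro w hw; rwa [one_smul]
  | mem x hx => rcases hx with hx | hx; exacts [hK x hx, hA x hx]
  | inv_mem x hx => rcases hx with hx | hx; exacts [hK _ (K.inv_mem hx), hA _ (A.inv_mem hx)]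
  | mul x y _ _ hx hy => intro w hw; rw [mul_smul]; exact hx _ (hy w hw)

theorem best_restrict [Finite G] [Finite V] {A : Subgroup G} (hA : Best V A) {S : Subgroup G} (hAS : A ≤ S)
    {U : AddSubgroup V} (hU : ∀ g ∈ S, ∀ u ∈ U, g • u ∈ U) :
    Best ↥U ((A.subgroupOf S).map (restrict S U hU)) := by
  intro B' hB'
  set r := restrict S U hU
  set AS := A.subgroupOf S
  set BS := AS ⊓ B'.comap r
  have hmap : BS.map r = B' := by
    refine le_antisymm ?_ fun x hx => ?_
    · rintro _ ⟨y, hy, rfl⟩; exact hy.2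
    · obtain ⟨y, hy, rfl⟩ := hB' hx
      exact ⟨y, ⟨hy, hx⟩, rfl⟩
  have hker : BS ⊓ r.ker = AS ⊓ r.ker := by
    refine le_antisymm (inf_le_inf_right _ inf_le_left) fun y hy => ⟨⟨hy.1, ?_⟩, hy.2⟩
    show r y ∈ B'
    rw [MonoidHom.mem_ker.1 hy.2]; exact one_mem _
  set B := BS.map S.subtype
  have hBA : B ≤ A := by rintro _ ⟨y, hy, rfl⟩; exact hy.1
  have hcB : Nat.card B = Nat.card B' * Nat.card ↥(AS ⊓ r.ker) := by
    rw [Subgroup.card_map_of_injective S.subtype_injective, ← card_map_mul r BS, hmap, hker]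
  have hcA : Nat.card A = Nat.card ↥(AS.map r) * Nat.card ↥(AS ⊓ r.ker) := by
    rw [card_map_mul r AS]
    exact (Nat.card_congr (Subgroup.subgroupOfEquivOfLe hAS).toEquiv).symm
  set fU := fixS (V := ↥U) (AddMonoid.End ↥U)ˣ (B' : Set (AddMonoid.End ↥U)ˣ)
  set fA := fixS (V := V) G (A : Set G)
  set fB := fixS (V := V) G (B : Set G)
  have h1 : fU.map U.subtype ⊔ fA ≤ fB := by
    refine sup_le ?_ (fixS_anti (fun g hg => hBA hg))
    rintro _ ⟨u, hu, rfl⟩ _ ⟨y, hy, rfl⟩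
    exact congrArg Subtype.val (hu (r y) hy.2)
  have h2 : fU.map U.subtype ⊓ fA =
      (fixS (V := ↥U) (AddMonoid.End ↥U)ˣ ((AS.map r : Subgroup _) : Set (AddMonoid.End ↥U)ˣ)).map U.subtype := by
    refine le_antisymm ?_ ?_
    · rintro _ ⟨⟨u, -, rfl⟩, hA2⟩
      refine ⟨u, ?_, rfl⟩
      rintro _ ⟨y, hy, rfl⟩
      exact Subtype.ext (hA2 y.1 hy)
    · rintro _ ⟨u, hu, rfl⟩
      refine ⟨⟨u, fixS_anti (fun g hg => hB' hg) hu, rfl⟩, fun a ha => ?_⟩
      exact congrArg Subtype.val (hu (r ⟨a, hAS ha⟩) ⟨⟨a, hAS ha⟩, ha, rfl⟩)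
  have h3 := card_sup_mul_card_inf (fU.map U.subtype) fA
  have h4 := AddSubgroup.card_le_of_le h1
  have hm : ∀ T : AddSubgroup ↥U, Nat.card ↥(T.map U.subtype) = Nat.card T := fun T =>
    (Nat.card_congr (T.equivMapOfInjective U.subtype U.subtype_injective).toEquiv).symm
  rw [h2, hm, hm] at h3
  have h5 := hA B hBA
  rw [hcB, hcA] at h5
  refine Nat.le_of_mul_le_mul_right ?_
    (Nat.mul_pos (Nat.card_pos (α := ↥(AS ⊓ r.ker))) (Nat.card_pos (α := ↥fA)))
  calc Nat.card B' * Nat.card ↥fU * (Nat.card ↥(AS ⊓ r.ker) * Nat.card ↥fA)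
      = Nat.card B' * Nat.card ↥(AS ⊓ r.ker) * (Nat.card ↥fU * Nat.card ↥fA) := by ring
    _ = Nat.card B' * Nat.card ↥(AS ⊓ r.ker) * (Nat.card ↥(fU.map U.subtype ⊔ fA) *
        Nat.card ↥(fixS (V := ↥U) (AddMonoid.End ↥U)ˣ ((AS.map r : Subgroup _) : Set (AddMonoid.End ↥U)ˣ))) := by
        rw [h3]
    _ ≤ Nat.card B' * Nat.card ↥(AS ⊓ r.ker) * (Nat.card ↥fB *
        Nat.card ↥(fixS (V := ↥U) (AddMonoid.End ↥U)ˣ ((AS.map r : Subgroup _) : Set (AddMonoid.End ↥U)ˣ))) := by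
        gcongr
    _ = (Nat.card B' * Nat.card ↥(AS ⊓ r.ker) * Nat.card ↥fB) *
        Nat.card ↥(fixS (V := ↥U) (AddMonoid.End ↥U)ˣ ((AS.map r : Subgroup _) : Set (AddMonoid.End ↥U)ˣ)) := by
        ring
    _ ≤ (Nat.card ↥(AS.map r) * Nat.card ↥(AS ⊓ r.ker) * Nat.card ↥fA) *
        Nat.card ↥(fixS (V := ↥U) (AddMonoid.End ↥U)ˣ ((AS.map r : Subgroup _) : Set (AddMonoid.End ↥U)ˣ)) := by
        gcongr
    _ = _ := by ring

/-- A module all of whose proper invariant subgroups are centralized by `K`. -/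
theorem normalizes_of_minimal [Finite G] [Finite V] {p : ℕ} [hp : Fact p.Prime] {K A : Subgroup G}
    (h : Hyp p V K A) (hA : Best V A)
    (hmin : ∀ W : AddSubgroup V, (∀ k ∈ K, ∀ w ∈ W, k • w ∈ W) → (∀ a ∈ A, ∀ w ∈ W, a • w ∈ W) →
      W = ⊤ ∨ ∀ k ∈ K, ∀ w ∈ W, k • w = w)
    (IH : ∀ B : Subgroup G, B ≤ A → Nat.card B < Nat.card A → Best V B → B ≤ Subgroup.normalizer (K : Set G)) :
    A ≤ Subgroup.normalizer (K : Set G) := by
  by_cases hnt : ∃ a ∈ A, ∃ v : V, a • v ≠ v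
  swap
  · push_neg at hnt
    intro a ha
    rw [h.faith a (hnt a ha)]
    exact Subgroup.one_mem _
  have hKnt : ∃ k ∈ K, k ≠ 1 := by
    have := Components.IsQuasisimple.nontrivial h.qs
    obtain ⟨k, hk⟩ := exists_ne (1 : ↥K)
    exact ⟨k.1, k.2, fun e => hk (Subtype.ext e)⟩
  set U0 : AddSubgroup V := fixS G {g | ∃ c ∈ A, ∃ y ∈ K, cj c y = g}
  have hU0K : ∀ k ∈ K, ∀ w ∈ U0, k • w = w := fun k hk w hw => hw k ⟨1, A.one_mem, k, hk, cj_one k⟩
  have hU0A : ∀ a ∈ A, ∀ w ∈ U0, a • w ∈ U0 := by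
    intro a ha w hw
    rintro _ ⟨c, hc, y, hy, rfl⟩
    have e : cj c y * a = a * cj (a⁻¹ * c) y := by simp only [cj_def]; group
    rw [smul_smul, e, mul_smul, hw _ ⟨_, A.mul_mem (A.inv_mem ha) hc, y, hy, rfl⟩]
  have hprop : ∀ W : AddSubgroup V, (∀ k ∈ K, ∀ w ∈ W, k • w ∈ W) → (∀ a ∈ A, ∀ w ∈ W, a • w ∈ W) →
      W = ⊤ ∨ W ≤ U0 := by
    intro W hK hA'
    rcases hmin W hK hA' with hW | hW
    · exact Or.inl hW
    refine Or.inr fun w hw => ?_
    rintro _ ⟨c, hc, y, hy, rfl⟩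
    rw [cj_smul_iff, hW y hy _ (hA' _ (A.inv_mem hc) w hw)]
  set S := K ⊔ A
  have hKS : K ≤ S := le_sup_left
  have hAS : A ≤ S := le_sup_right
  have hSU : ∀ g ∈ S, ∀ u ∈ U0, g • u ∈ U0 :=
    stab_of_gen (fun k hk u hu => by rw [hU0K k hk u hu]; exact hu) hU0A
  set r := onQuot S U0 hSU
  -- `K` acts nontrivially on `V / U0`
  have hKr : ∀ k : ↥S, r k = 1 → ∀ v : V, k.1 • v - v ∈ U0 := by
    intro k hk v
    have h1 := onQuot_smul S U0 hSU k v
    rw [show onQuot S U0 hSU k = 1 from hk, one_smul, eq_comm, QuotientAddGroup.eq_iff_sub_mem] at h1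
    exact h1
  have hKnt' : ¬ ∀ y ∈ K, ∀ v : V, y • v - v ∈ U0 := by
    intro hall
    obtain ⟨k, hk, hk1⟩ := hKnt
    refine hk1 (h.faith k fun v => ?_)
    refine fix_of_commute h.qs K.subtype (W := (Set.univ : Set V)) (fun _ _ _ => Set.mem_univ _)
      (fun y z w _ => ?_) ⟨k, hk⟩ v (Set.mem_univ v)
    show y.1 • z.1 • w = z.1 • y.1 • w
    have e1 : y.1 • (z.1 • w - w) = z.1 • w - w := hU0K y.1 y.2 _ (hall z.1 z.2 w)
    have e2 : z.1 • (y.1 • w - w) = y.1 • w - w := hU0K z.1 z.2 _ (hall y.1 y.2 w)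
    rw [smul_sub, sub_eq_iff_eq_add] at e1 e2
    rw [e1, e2]; abel
  have hr1 : ∃ k : ↥S, k.1 ∈ K ∧ r k ≠ 1 := by
    by_contra! hcon
    exact hKnt' fun y hy v => hKr ⟨y, hKS hy⟩ (hcon ⟨y, hKS hy⟩ hy) v
  have hpQ : ∀ q : V ⧸ U0, p • q = 0 := fun q => by
    induction q using QuotientAddGroup.induction_on with
    | H u => rw [← QuotientAddGroup.mk_nsmul, h.hp, QuotientAddGroup.mk_zero]
  obtain ⟨hq, hback⟩ := h.image hKS hAS hpQ (fun g hg => units_faith g hg) r hr1
  set K' := (K.subgroupOf S).map r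
  set A' := (A.subgroupOf S).map r
  let f : ↥K →* (AddMonoid.End (V ⧸ U0))ˣ := r.comp (Subgroup.inclusion hKS)
  -- `A` is faithful on the quotient
  have hinj : ∀ a : ↥S, a.1 ∈ A → r a = 1 → a.1 = 1 := by
    intro a ha har
    have haK : ∀ y : ↥K, a.1 * y.1 = y.1 * a.1 := by
      by_cases hm : Moves K a.1
      · exfalso
        have htriv : ∀ y : ↥K, f y = 1 := qs_hom_trivial h.qs f fun y z => by
          have hc : Commute (Subgroup.inclusion hKS y) (a * Subgroup.inclusion hKS z * a⁻¹) :=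
            Subtype.ext (h.swap a.1 ha hm y.1 y.2 z.1 z.2)
          have := hc.map r
          rwa [map_mul, map_mul, map_inv, har, one_mul, inv_one, mul_one] at this
        exact hKnt' fun y hy v => hKr ⟨y, hKS hy⟩ (htriv ⟨y, hy⟩) v
      · have hn : a.1 ∈ Subgroup.normalizer (K : Set G) := not_not.1 hm
        let σ : ↥K →* ↥K := MonoidHom.mk' (fun y => ⟨cj a.1 y.1, cj_mem hn y.2⟩)
          fun u v => Subtype.ext (map_mul (MulAut.conj a.1) u.1 v.1)
        rcases Components.IsQuasisimple.normal_eq_top_or_le_center h.qs f.ker with hk | hk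
        · exact absurd (fun y hy v => hKr ⟨y, hKS hy⟩
            (MonoidHom.mem_ker.1 (show (⟨y, hy⟩ : ↥K) ∈ f.ker by rw [hk]; exact Subgroup.mem_top _)) v) hKnt'
        · intro y
          have h1 : f (σ y) = f y := by
            have e : Subgroup.inclusion hKS (σ y) = a * Subgroup.inclusion hKS y * a⁻¹ := Subtype.ext rfl
            show r (Subgroup.inclusion hKS (σ y)) = r (Subgroup.inclusion hKS y)
            rw [e, map_mul, map_mul, map_inv, har, one_mul, inv_one, mul_one]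
          have h2 : cj a.1 y.1 = y.1 := congrArg Subtype.val (qs_aut_eq h.qs σ (fun z => hk (by
            have e : Subgroup.inclusion hKS (σ z) = a * Subgroup.inclusion hKS z * a⁻¹ := Subtype.ext rfl
            have h3 : f (σ z) = f z := by
              show r (Subgroup.inclusion hKS (σ z)) = r (Subgroup.inclusion hKS z)
              rw [e, map_mul, map_mul, map_inv, har, one_mul, inv_one, mul_one]
            rw [MonoidHom.mem_ker, map_mul, map_inv, h3, inv_mul_cancel])) y)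
          rw [cj_def, mul_inv_eq_iff_eq_mul] at h2
          exact h2
    rcases hprop (fixS G {a.1}) (fun k hk w hw => by
        rintro g rfl
        rw [smul_smul, haK ⟨k, hk⟩, mul_smul, hw _ rfl])
      (fun c hc w hw => by
        rintro g rfl
        rw [smul_smul, h.comm _ ha c hc, mul_smul, hw _ rfl]) with hW | hW
    · exact h.faith a.1 fun v => (hW ▸ AddSubgroup.mem_top v : v ∈ fixS (V := V) G {a.1}) _ rfl
    · refine absurd (fun y hy v => hW ?_) hKnt'
      rintro g rfl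
      have h1 : y • (a.1 • v - v) = a.1 • v - v := hU0K y hy _ (hKr a har v)
      rw [smul_sub, smul_smul, ← haK ⟨y, hy⟩, mul_smul] at h1
      rw [smul_sub, sub_eq_sub_iff_sub_eq_sub]
      exact h1
  -- the replacement
  obtain ⟨hB, -⟩ := timmesfeld h.comm hA
  have hB1 := timmesfeld_ne_bot h.hp h.comm h.exp hA hnt
  set B := A ⊓ fixG G (cS (Set.univ : Set V) A : Set V)
  have hfix : ∀ b ∈ B, ∀ a ∈ A, ∀ v : V, b • (a • v - v) = a • v - v := fun b hb a ha v =>
    hb.2 _ (cS_mem (Set.mem_univ v) ha)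
  have hquot : ∀ b : ↥S, b.1 ∈ B → ∀ a' ∈ A', ∀ w ∈ rng (V := V ⧸ U0) a', r b • w = w := by
    rintro b hb _ ⟨a, ha, rfl⟩ w hw
    obtain ⟨v, rfl⟩ := mem_rng.1 hw
    induction v using QuotientAddGroup.induction_on with
    | H u =>
      show onQuot S U0 hSU b • (onQuot S U0 hSU a • QuotientAddGroup.mk u - QuotientAddGroup.mk u) = _
      rw [onQuot_smul, ← QuotientAddGroup.mk_sub, onQuot_smul, hfix b.1 hb a.1 ha u]
  have hctx : Ctx p (V ⧸ U0) K' A' := by
    refine ⟨hq.hp, hq.qs, hq.comm, hq.exp, hq.swap, fun W hWK hWA => ?_, hq.faith, ?_⟩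
    · let mkH := QuotientAddGroup.mk' U0
      rcases hprop (W.comap mkH) (fun k hk w hw => by
          have h1 := hWK (r ⟨k, hKS hk⟩) ⟨⟨k, hKS hk⟩, hk, rfl⟩ _ hw
          show QuotientAddGroup.mk (k • w) ∈ W
          exact h1)
        (fun a ha w hw => by
          have h1 := hWA (r ⟨a, hAS ha⟩) ⟨⟨a, hAS ha⟩, ha, rfl⟩ _ hw
          show QuotientAddGroup.mk (a • w) ∈ W
          exact h1) with hW | hW
      · refine Or.inr (eq_top_iff.2 fun q _ => ?_)
        obtain ⟨u, rfl⟩ := QuotientAddGroup.mk'_surjective U0 q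
        exact (hW ▸ AddSubgroup.mem_top u : u ∈ W.comap mkH)
      · refine Or.inl (eq_bot_iff.2 fun q hq' => ?_)
        obtain ⟨u, rfl⟩ := QuotientAddGroup.mk'_surjective U0 q
        exact AddSubgroup.mem_bot.2 ((QuotientAddGroup.eq_zero_iff u).2 (hW hq'))
    · have hcard : Nat.card A = Nat.card A' := by
        rw [← Nat.card_congr (Subgroup.subgroupOfEquivOfLe hAS).toEquiv, ← card_map_mul r (A.subgroupOf S)]
        have : A.subgroupOf S ⊓ r.ker = ⊥ := eq_bot_iff.2 fun x hx =>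
          Subgroup.mem_bot.2 (Subtype.ext (hinj x hx.1 (MonoidHom.mem_ker.1 hx.2)))
        rw [this, Subgroup.card_bot, mul_one]
      set fA := fixS (V := V) G (A : Set G)
      have h1 : Nat.card V ≤ Nat.card A * Nat.card ↥fA := by
        have := hA ⊥ bot_le
        have e : fixS (V := V) G ((⊥ : Subgroup G) : Set G) = ⊤ := eq_top_iff.2 fun v _ g hg => by
          rw [Subgroup.coe_bot, Set.mem_singleton_iff] at hg
          rw [hg, one_smul]
        rwa [Subgroup.card_bot, one_mul, e, AddSubgroup.card_top] at this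
      let φ : ↥fA →+ V ⧸ U0 := (QuotientAddGroup.mk' U0).comp fA.subtype
      have h2 := φ.ker.card_eq_card_quotient_mul_card_addSubgroup
      rw [Nat.card_congr (QuotientAddGroup.quotientKerEquivRange φ).toEquiv] at h2
      have h3 : Nat.card ↥φ.range ≤ Nat.card ↥(fixS (V := V ⧸ U0) (AddMonoid.End (V ⧸ U0))ˣ (A' : Set _)) := by
        refine AddSubgroup.card_le_of_le ?_
        rintro _ ⟨u, rfl⟩ _ ⟨a, ha, rfl⟩
        show QuotientAddGroup.mk (a.1 • u.1) = QuotientAddGroup.mk u.1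
        rw [u.2 a.1 ha]
      have h4 : Nat.card ↥φ.ker ≤ Nat.card U0 :=
        Nat.card_le_card_of_injective (fun x => (⟨x.1.1, (QuotientAddGroup.eq_zero_iff _).1 x.2⟩ : ↥U0))
          fun x y e => by
            have := congrArg Subtype.val e
            exact Subtype.ext (Subtype.ext this)
      have h5 := U0.card_eq_card_quotient_mul_card_addSubgroup
      refine Nat.le_of_mul_le_mul_right ?_ (Nat.card_pos (α := ↥U0))
      rw [← h5]
      refine h1.trans ?_
      rw [h2, hcard]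
      calc Nat.card A' * (Nat.card ↥φ.range * Nat.card ↥φ.ker)
          ≤ Nat.card A' * (Nat.card ↥(fixS (V := V ⧸ U0) (AddMonoid.End (V ⧸ U0))ˣ (A' : Set _)) * Nat.card U0) := by
            gcongr
        _ = _ := by ring
  have hmain : A' ≤ Subgroup.normalizer (K' : Set _) := by
    refine hctx.main ?_
    rcases (show B ≤ A from fun x hx => hx.1).eq_or_lt with hBA | hBA
    · left
      rintro a ha _ ⟨b, hb, rfl⟩
      exact hquot b (show b.1 ∈ B by rw [hBA]; exact hb) a ha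
    · right
      have hlt : Nat.card B < Nat.card A := by
        refine lt_of_le_of_ne (Subgroup.card_le_of_le hBA.le) fun e => hBA.ne ?_
        exact PLocal.eq_of_le_of_card_le hBA.le e.ge
      have hBN := IH B hBA.le hlt hB
      obtain ⟨b, hb, hb1⟩ := (Subgroup.bot_or_exists_ne_one B).resolve_left hB1
      refine ⟨r ⟨b, hAS hb.1⟩, ⟨⟨b, hAS hb.1⟩, hb.1, rfl⟩, fun e => hb1 (hinj ⟨b, hAS hb.1⟩ hb.1 e), ?_,
        hquot ⟨b, hAS hb.1⟩ hb⟩
      refine Subgroup.mem_normalizer_iff.2 fun y => ?_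
      have hbn : ∀ z : ↥S, z.1 ∈ Subgroup.normalizer (K : Set G) → ∀ y ∈ K', r z * y * (r z)⁻¹ ∈ K' := by
        rintro z hz _ ⟨y, hy, rfl⟩
        exact ⟨z * y * z⁻¹, (Subgroup.mem_normalizer_iff.1 hz y.1).1 hy, by simp⟩
      refine ⟨hbn ⟨b, hAS hb.1⟩ (hBN hb) y, fun hy => ?_⟩
      have := hbn ⟨b, hAS hb.1⟩⁻¹ (Subgroup.inv_mem _ (hBN hb)) _ hy
      simpa [mul_assoc] using this
  intro a ha
  exact hback ⟨a, hAS ha⟩ ha (hmain ⟨⟨a, hAS ha⟩, ha, rfl⟩)

theorem pgv_units (p : ℕ) [hp : Fact p.Prime] : ∀ (n : ℕ) (U : Type v) [AddCommGroup U] [Finite U]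
    (K A : Subgroup (AddMonoid.End U)ˣ), Nat.card A ≤ n → Hyp p U K A → Best U A →
      A ≤ Subgroup.normalizer (K : Set (AddMonoid.End U)ˣ) := by
  intro n
  induction n with
  | zero => intro U _ _ K A hn; exact absurd hn (Nat.not_le.2 Nat.card_pos)
  | succ n ih =>
    intro V _ _ K A hn h hA
    classical
    -- a minimal submodule on which `K` is nontrivial
    let P : AddSubgroup V → Prop := fun W =>
      (∀ k ∈ K, ∀ w ∈ W, k • w ∈ W) ∧ (∀ a ∈ A, ∀ w ∈ W, a • w ∈ W) ∧ ∃ k ∈ K, ∃ w ∈ W, k • w ≠ w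
    have hex : ∃ m : ℕ, ∃ W, P W ∧ Nat.card W = m := by
      refine ⟨_, ⊤, ⟨fun _ _ _ _ => AddSubgroup.mem_top _, fun _ _ _ _ => AddSubgroup.mem_top _, ?_⟩, rfl⟩
      have := Components.IsQuasisimple.nontrivial h.qs
      obtain ⟨k, hk⟩ := exists_ne (1 : ↥K)
      by_contra! hcon
      exact hk (Subtype.ext (h.faith k.1 fun v => hcon k.1 k.2 v (AddSubgroup.mem_top v)))
    obtain ⟨U, ⟨hUK, hUA, k0, hk0, w0, hw0, hkw⟩, hUc⟩ := Nat.find_spec hex
    set S := K ⊔ A
    set r := restrict S U (stab_of_gen hUK hUA)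
    have hpU : ∀ u : ↥U, p • u = 0 := fun u => Subtype.ext (by
      rw [AddSubgroup.coe_nsmul]; exact h.hp u.1)
    have hr : ∃ k : ↥S, k.1 ∈ K ∧ r k ≠ 1 := by
      refine ⟨⟨k0, le_sup_left (b := A) hk0⟩, hk0, fun e => hkw ?_⟩
      have h1 := congrArg (fun g : (AddMonoid.End ↥U)ˣ => ((g • (⟨w0, hw0⟩ : ↥U) : ↥U) : V)) e
      simpa [r, restrict_smul] using h1
    obtain ⟨h', hback⟩ := h.image (S := S) le_sup_left le_sup_right hpU (fun g hg => units_faith g hg) r hr
    have hA' := best_restrict (S := S) hA le_sup_right (stab_of_gen hUK hUA)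
    set K' := (K.subgroupOf S).map r
    set A' := (A.subgroupOf S).map r
    have hA'n : Nat.card A' ≤ n + 1 := by
      refine le_trans ?_ hn
      rw [← Nat.card_congr (Subgroup.subgroupOfEquivOfLe (le_sup_right : A ≤ S)).toEquiv,
        ← card_map_mul r (A.subgroupOf S)]
      exact Nat.le_mul_of_pos_right _ Nat.card_pos
    have hN' : A' ≤ Subgroup.normalizer (K' : Set _) := by
      refine normalizes_of_minimal h' hA' (fun W hWK hWA => ?_) (fun B hB hBlt hBb => ?_)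
      · by_contra! hcon
        obtain ⟨hW, k, hk, w, hw, hkw'⟩ := hcon
        obtain ⟨k, hk, rfl⟩ := hk
        have hlt : Nat.card ↥(W.map U.subtype) < Nat.card U := by
          rw [← Nat.card_congr (W.equivMapOfInjective U.subtype U.subtype_injective).toEquiv]
          exact lt_of_le_of_ne (Nat.card_le_card_of_injective _ W.subtype_injective) fun e =>
            hW (AddSubgroup.eq_top_of_card_eq W e)
        refine Nat.find_min hex (hUc ▸ hlt) ⟨W.map U.subtype, ⟨?_, ?_, ⟨k.1, hk, w.1, ⟨w, hw, rfl⟩, fun e => hkw' (Subtype.ext e)⟩⟩, rfl⟩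
        · rintro k hk _ ⟨w, hw, rfl⟩
          exact ⟨_, hWK (r ⟨k, le_sup_left (b := A) hk⟩) ⟨_, hk, rfl⟩ w hw, rfl⟩
        · rintro a ha _ ⟨w, hw, rfl⟩
          exact ⟨_, hWA (r ⟨a, le_sup_right (a := K) ha⟩) ⟨_, ha, rfl⟩ w hw, rfl⟩
      · refine ih ↥U K' B (by omega) ⟨h'.hp, h'.qs, fun a ha c hc => h'.comm a (hB ha) c (hB hc),
          fun a ha => h'.exp a (hB ha), fun a ha => h'.swap a (hB ha), h'.faith⟩ hBb
    intro a ha
    exact hback ⟨a, le_sup_right (a := K) ha⟩ ha (hN' ⟨_, ha, rfl⟩)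

/-- The P(G,V) theorem for a faithful action. -/
theorem pgv {G : Type u} {V : Type v} [Group G] [AddCommGroup V] [DistribMulAction G V] [Finite G] [Finite V]
    (p : ℕ) [Fact p.Prime] {K A : Subgroup G} (h : Hyp p V K A) (hA : Best V A) :
    A ≤ Subgroup.normalizer (K : Set G) := by
  set ι := toUnitsEnd G V
  have hinj : Function.Injective ι := by
    rw [injective_iff_map_eq_one]
    intro g hg
    refine h.faith g fun v => ?_
    rw [← toUnitsEnd_smul, show toUnitsEnd G V g = 1 from hg, one_smul]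
  set r := ι.comp (⊤ : Subgroup G).subtype
  have hr : ∃ k : ↥(⊤ : Subgroup G), k.1 ∈ K ∧ r k ≠ 1 := by
    have := Components.IsQuasisimple.nontrivial h.qs
    obtain ⟨k, hk⟩ := exists_ne (1 : ↥K)
    exact ⟨⟨k.1, Subgroup.mem_top _⟩, k.2, fun e => hk (Subtype.ext ((injective_iff_map_eq_one ι).1 hinj _ e))⟩
  obtain ⟨h', hback⟩ := h.image (S := ⊤) le_top le_top h.hp (fun g hg => units_faith g hg) r hr
  have hmap : ∀ B : Subgroup G, (B.subgroupOf ⊤).map r = B.map ι := fun B => by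
    rw [← Subgroup.map_map, Subgroup.subgroupOf_map_subtype, inf_top_eq]
  have hfix : ∀ B : Subgroup G, fixS (V := V) (AddMonoid.End V)ˣ ((B.map ι : Subgroup _) : Set (AddMonoid.End V)ˣ) =
      fixS G (B : Set G) := fun B => by
    ext v
    constructor
    · intro hv g hg; exact hv (ι g) ⟨g, hg, rfl⟩
    · rintro hv _ ⟨g, hg, rfl⟩; exact hv g hg
  have hA' : Best V ((A.subgroupOf ⊤).map r) := by
    intro B' hB'
    rw [hmap] at hB' ⊢
    obtain ⟨B, hB, rfl⟩ : ∃ B : Subgroup G, B ≤ A ∧ B.map ι = B' := by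
      refine ⟨A ⊓ B'.comap ι, inf_le_left, le_antisymm ?_ fun x hx => ?_⟩
      · rintro _ ⟨y, hy, rfl⟩; exact hy.2
      · obtain ⟨y, hy, rfl⟩ := hB' hx
        exact ⟨y, ⟨hy, hx⟩, rfl⟩
    rw [hfix, hfix, Subgroup.card_map_of_injective hinj, Subgroup.card_map_of_injective hinj]
    exact hA B hB
  intro a ha
  exact hback ⟨a, Subgroup.mem_top _⟩ ha
    (pgv_units p (Nat.card ↥((A.subgroupOf ⊤).map r)) V _ _ le_rfl h' hA' ⟨_, ha, rfl⟩)

end Cfsg.Agent.PGV
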